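import Cfsg.Agent.H609.T5.MFiveA
import Cfsg.Agent.H408.Core
import Cfsg.Agent.H60.SolvLift
import Cfsg.Agent.H790.Str.Grp
import Cfsg.Agent.H121.OZ.JTwoCls
import Cfsg.Agent.LThreeB.FromM
import Cfsg.Agent.S1619

/-!
# The group `5^(1+6) : 2.J₂`, abstractly (helper71, TAB)

`Loc z x S ρ` : the structure of the centralizer `D` of an element `x` of the class `5B` of the Monster; bounds for the
centralizers in `D`.
-/

set_option autoImplicit false
set_option maxRecDepth 100000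

namespace Cfsg.Agent.TAB.M5

open Cfsg
open Subgroup (centralizer zpowers mem_centralizer_singleton_iff)
open Cfsg.Agent.H121.OZ.JTwoCls (ov cv)

/-! ### `J₂` -/

theorem j2_type {A : Type} [Group A] (h : Spor.IsoJ2 A) (a : A) :
    ∃ j : Fin 21, orderOf a = ov j ∧ Nat.card (centralizer ({a} : Set A)) = cv j := by
  obtain ⟨e⟩ := h
  obtain ⟨f⟩ := J2.HundredGens.J2_iso S1619.result.2.2.2
  obtain ⟨j, -, h1, h2⟩ := H121.OZ.JTwoCls.type ((e.trans f) a)
  exact ⟨j, by rw [← h1, MulEquiv.orderOf_eq], by rw [LThreeB.card_centralizer_congr (e.trans f) a]; exact h2⟩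

theorem j2_card {A : Type} [Group A] (h : Spor.IsoJ2 A) : Nat.card A = 604800 := by
  obtain ⟨e⟩ := h
  rw [Nat.card_congr e.toEquiv, S1619.result.2.2.2]

theorem j2_cent {A : Type} [Group A] (h : Spor.IsoJ2 A) {a : A} {n : ℕ} (ha : orderOf a = n) {P : ℕ → Prop}
    (hP : ∀ j : Fin 21, ov j = n → P (cv j)) : P (Nat.card (centralizer ({a} : Set A))) := by
  obtain ⟨j, h1, h2⟩ := j2_type h a
  rw [h2]
  exact hP j (h1.symm.trans ha)

/-! ### Sylow's theorem -/

theorem conj_into {G : Type*} [Group G] [Finite G] {p k : ℕ} (hp : p.Prime) {E F U : Subgroup G} (hFE : F ≤ E)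
    (hUE : U ≤ E) (hU : IsPGroup p U) (h1 : p ^ k ∣ Nat.card F) (h2 : ¬ p ^ (k + 1) ∣ Nat.card E) :
    ∃ c ∈ E, ∀ u ∈ U, c * u * c⁻¹ ∈ F := by
  have h3 : IsPGroup p (U.subgroupOf E) := hU.of_equiv (Subgroup.subgroupOfEquivOfLe hUE).symm
  have h4 : ¬ p ∣ (F.subgroupOf E).index := by
    intro h5
    apply h2
    rw [← (F.subgroupOf E).card_mul_index, Nat.card_congr (Subgroup.subgroupOfEquivOfLe hFE).toEquiv, pow_succ]
    exact mul_dvd_mul h1 h5
  obtain ⟨c, hc⟩ := H408.Core.exists_conj_le hp h3 h4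
  exact ⟨c, c.2, fun u hu => hc ⟨u, hUE hu⟩ hu⟩

theorem pgroup_zpowers {G : Type*} [Group G] {p k : ℕ} {u : G} (h : orderOf u = p ^ k) : IsPGroup p (zpowers u) :=
  IsPGroup.of_card (n := k) (by rw [Nat.card_zpowers, h])

/-! ### The structure -/

/-- the centralizer of an element of the class `5B` -/
structure Loc {D : Type} [Group D] (z x : D) (S : Subgroup D) {A : Type} [Group A] (ρ : D →* A) : Prop where
  zz : z * z = 1
  z1 : z ≠ 1
  ox : orderOf x = 5
  xc : ∀ g, g * x = x * g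
  Sn : S.Normal
  cS : Nat.card S = 5 ^ 7
  xS : x ∈ S
  inv : ∀ n ∈ S, ∃ i : ℤ, z * n * z⁻¹ = n⁻¹ * x ^ i
  ker : ∀ g, ρ g = 1 ↔ g ∈ S ∨ g * z ∈ S
  lift : ∀ a, ∃ c, c * z = z * c ∧ ρ c = a
  kerH : ∀ c, c * z = z * c → ρ c = 1 → ∃ i : ℤ, c = x ^ i ∨ c = x ^ i * z
  iso : Spor.IsoJ2 A

theorem loc_of_rs {D : Type} [Group D] [Finite D] {z x : D} {N S : Subgroup D} {A : Type} [Group A] [IsSimpleGroup A]
    {f : centralizer ({z} : Set D) →* A} {ρ : D →* A} (hAc : ¬ Group.IsSolvable A)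
    (h : H609.T5.Five.RS z x N f ρ S) (hD : Nat.card D ∣ 5 ^ 7 * (604800 * 2)) : Loc z x S ρ := by
  have : Fact (Nat.Prime 5) := ⟨Nat.prime_five⟩
  have hNS : S = N := by
    obtain ⟨m, -, hm⟩ := h.rad.card_N_mul hAc
    rw [j2_card h.iso] at hm
    have h1 : Nat.card N * 604800 ∣ 5 ^ 7 * 2 * 604800 := by
      refine (mul_dvd_mul_left _ (dvd_mul_right _ m)).trans ?_
      rw [← hm]
      exact hD.trans (by norm_num)
    have h2 := Nat.dvd_of_mul_dvd_mul_right (by norm_num) h1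
    have h3 : Nat.card N ∣ 5 ^ 7 := (Nat.coprime_two_right.2 h.rad.oN).dvd_of_dvd_mul_right h2
    exact Subgroup.eq_of_le_of_card_ge h.SN (by rw [h.cS]; exact Nat.le_of_dvd (by norm_num) h3)
  subst hNS
  refine ⟨h.rad.zz, h.rad.z1, h.rad.ox, h.rad.xc, h.Sn, h.cS, h.xS, fun n hn => h.rad.inv (by norm_num) hn,
    fun g => ⟨fun hg => ?_, ?_⟩, fun a => ?_, fun c hc h1 => ?_, h.iso⟩
  · obtain ⟨n, hn, c, hc, rfl⟩ := h.rad.sup g
    rw [map_mul, h.ρN n hn, one_mul] at hg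
    have h1 : f ⟨c, mem_centralizer_singleton_iff.2 hc⟩ = 1 := by rw [← h.ρc]; exact hg
    obtain ⟨i, h2 | h2⟩ := h.rad.ker _ h1
    · have h3 : c = x ^ i := h2
      exact Or.inl (S.mul_mem hn (h3 ▸ S.zpow_mem h.xS i))
    · have h3 : c = x ^ i * z := h2
      right
      rw [h3, mul_assoc, mul_assoc, h.rad.zz, mul_one]
      exact S.mul_mem hn (S.zpow_mem h.xS i)
  · rintro (h1 | h1)
    · exact h.ρN g h1
    · have h2 := h.ρN _ h1
      rwa [map_mul, h.ρz, mul_one] at h2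
  · obtain ⟨c, hc⟩ := h.rad.surj a
    exact ⟨c, mem_centralizer_singleton_iff.1 c.2, by rw [h.ρc, hc]⟩
  · exact h.rad.ker ⟨c, mem_centralizer_singleton_iff.2 hc⟩ (by rw [← h.ρc]; exact h1)

namespace Loc

variable {D : Type} [Group D] [Finite D] {z x : D} {S : Subgroup D} {A : Type} [Group A] {ρ : D →* A}
  (h : Loc z x S ρ)

include h

omit [Finite D] in
theorem le_ker : S ≤ ρ.ker := fun g hg => (h.ker g).2 (Or.inl hg)

omit [Finite D] in
theorem ρz : ρ z = 1 := (h.ker z).2 (Or.inr (by rw [h.zz]; exact S.one_mem))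

omit [Finite D] in
theorem xpow (i : ℤ) (g : D) : Commute g (x ^ i) := (show Commute g x from h.xc g).zpow_right i

omit [Finite D] in
theorem pow_S {n : D} (hn : n ∈ S) : n ^ 78125 = 1 := by
  have h1 := Subgroup.orderOf_dvd_natCard S hn
  rw [h.cS] at h1
  exact orderOf_dvd_iff_pow_eq_one.1 h1

omit [Finite D] in
theorem eq_one_S {n : D} (hn : n ∈ S) (h2 : n * n = 1) : n = 1 := by
  have h1 := h.pow_S hn
  rwa [show 78125 = 2 * 39062 + 1 from rfl, pow_succ, pow_mul, pow_two, h2, one_pow, one_mul] at h1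

omit [Finite D] in
theorem card_K (C : Subgroup D) :
    Nat.card (C ⊓ ρ.ker : Subgroup D) ∣ 2 * Nat.card (C ⊓ S : Subgroup D) := by
  have := h.Sn
  have h1 := H60.SolvLift.card_mul (QuotientGroup.mk' S) (C ⊓ ρ.ker)
  rw [QuotientGroup.ker_mk', inf_assoc, inf_eq_right.2 h.le_ker] at h1
  rw [h1]
  refine mul_dvd_mul_right ?_ _
  have h2 : (C ⊓ ρ.ker).map (QuotientGroup.mk' S) ≤ zpowers (QuotientGroup.mk' S z) := by
    rintro _ ⟨g, hg, rfl⟩
    rcases (h.ker g).1 hg.2 with h3 | h3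
    · rw [show QuotientGroup.mk' S g = 1 from (QuotientGroup.eq_one_iff g).2 h3]
      exact Subgroup.one_mem _
    · have h4 : QuotientGroup.mk' S (g * z) = 1 := (QuotientGroup.eq_one_iff _).2 h3
      rw [map_mul, mul_eq_one_iff_eq_inv] at h4
      rw [h4]
      exact Subgroup.inv_mem _ (Subgroup.mem_zpowers _)
  refine (Subgroup.card_dvd_of_le h2).trans ?_
  rw [Nat.card_zpowers]
  exact orderOf_dvd_of_pow_eq_one (by rw [← map_pow, pow_two, h.zz, map_one])

omit [Finite D] in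
theorem card_S (C : Subgroup D) : Nat.card (C ⊓ S : Subgroup D) ∣ 5 ^ 7 := by
  rw [← h.cS]
  exact Subgroup.card_dvd_of_le inf_le_right

omit [Finite D] in
/-- the order of a centralizer -/
theorem card_cen (s : D) : ∃ a b : ℕ, Nat.card (centralizer ({s} : Set D)) = a * b ∧
    a ∣ Nat.card (centralizer ({ρ s} : Set A)) ∧ b ∣ 2 * Nat.card (centralizer ({s} : Set D) ⊓ S : Subgroup D) ∧
    Nat.card (centralizer ({s} : Set D) ⊓ S : Subgroup D) ∣ b ∧ ∀ y, y * s = s * y → orderOf (ρ y) ∣ a := by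
  refine ⟨_, _, H60.SolvLift.card_mul ρ _, Subgroup.card_dvd_of_le ?_, h.card_K _,
    Subgroup.card_dvd_of_le (inf_le_inf_left _ h.le_ker), fun y hy => ?_⟩
  · rintro _ ⟨g, hg, rfl⟩
    rw [mem_centralizer_singleton_iff, ← map_mul, ← map_mul, mem_centralizer_singleton_iff.1 hg]
  · exact Subgroup.orderOf_dvd_natCard _ ⟨y, mem_centralizer_singleton_iff.2 hy, rfl⟩

omit [Finite D] in
theorem ord_ker {g : D} (hg : ρ g = 1) : orderOf g ∣ 2 * 5 ^ 7 :=
  (Subgroup.orderOf_dvd_natCard (⊤ ⊓ ρ.ker) ⟨Subgroup.mem_top g, hg⟩).trans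
    ((h.card_K ⊤).trans (mul_dvd_mul_left 2 (h.card_S ⊤)))

omit [Finite D] h in
theorem ord_rho {s : D} {p : ℕ} (hp : p.Prime) (hs : orderOf s = p) (h1 : ρ s ≠ 1) : orderOf (ρ s) = p := by
  have : Fact p.Prime := ⟨hp⟩
  exact orderOf_eq_prime (by rw [← map_pow, ← hs, pow_orderOf_eq_one, map_one]) h1

omit [Finite D] in
theorem rho_three {s : D} (hs : orderOf s = 3) : orderOf (ρ s) = 3 :=
  ord_rho Nat.prime_three hs fun h1 => by
    have h2 := h.ord_ker h1
    rw [hs] at h2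
    norm_num at h2

theorem fix_three {s : D} (hs : orderOf s = 3) :
    Nat.card (centralizer ({s} : Set D) ⊓ S : Subgroup D) = 5 ∨
      125 ∣ Nat.card (centralizer ({s} : Set D) ⊓ S : Subgroup D) := by
  have : Fact (Nat.Prime 3) := ⟨Nat.prime_three⟩
  have := h.Sn
  have h1 := H790.Str.card_cent_modEq (V := S) (pgroup_zpowers (k := 1) (by rw [hs, pow_one]))
    (by rw [Subgroup.normalizer_eq_top]; exact le_top)
  rw [Subgroup.zpowers_eq_closure, Subgroup.centralizer_closure, inf_comm, h.cS] at h1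
  obtain ⟨i, hi, h2⟩ := (Nat.dvd_prime_pow Nat.prime_five).1 (h.card_S (centralizer ({s} : Set D)))
  rw [h2] at h1 ⊢
  interval_cases i <;> first | (left; rfl) | (right; norm_num; done) | (exfalso; revert h1; decide)

omit [Finite D] in
/-- the involutions of the kernel -/
theorem inv_ker {t : D} (ht : t * t = 1) (h1 : t ≠ 1) (hρ : ρ t = 1) : IsConj z t := by
  have h2 : t * z ∈ S := ((h.ker t).1 hρ).resolve_left fun h3 => h1 (h.eq_one_S h3 ht)
  have hz : z⁻¹ = z := inv_eq_of_mul_eq_one_right h.zz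
  have ht' : t⁻¹ = t := inv_eq_of_mul_eq_one_right ht
  have h3 : z * (t * z)⁻¹ * z⁻¹ = t * z := by
    rw [mul_inv_rev, hz, ht', ← mul_assoc, h.zz, one_mul]
  have h4 : z * ((t * z) ^ 39063)⁻¹ * z⁻¹ = (t * z) ^ 39063 := by rw [← inv_pow, ← conj_pow, h3]
  refine isConj_iff.2 ⟨(t * z) ^ 39063, ?_⟩
  calc (t * z) ^ 39063 * z * ((t * z) ^ 39063)⁻¹ = (t * z) ^ 39063 * (z * ((t * z) ^ 39063)⁻¹ * z⁻¹) * z := by
        simp only [mul_assoc, inv_mul_cancel, mul_one]
    _ = (t * z) ^ (78125 + 1) * z := by rw [h4, ← pow_add]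
    _ = t := by rw [pow_succ, h.pow_S h2, one_mul, mul_assoc, h.zz, mul_one]

omit [Finite D] in
/-- the fifth roots of the powers of `x` -/
theorem not_ker {y : D} (h1 : y ^ 5 ≠ 1) (h2 : y ^ 5 ∈ zpowers x) : ρ y ≠ 1 := by
  intro hρ
  have := h.Sn
  obtain ⟨k, hk⟩ := h2
  have hk' : x ^ k = y ^ 5 := hk
  have hx5 : ∀ i : ℤ, (x ^ i) ^ 5 = 1 := fun i => by
    rw [← zpow_natCast, ← zpow_mul, mul_comm, zpow_mul, zpow_natCast, ← h.ox, pow_orderOf_eq_one, one_zpow]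
  have h25 : y ^ 25 = 1 := by rw [show 25 = 5 * 5 from rfl, pow_mul, ← hk', hx5]
  have hyS : y ∈ S := by
    have h3 : y * y ∈ S := by
      rcases (h.ker y).1 hρ with h4 | h4
      · exact S.mul_mem h4 h4
      · have h5 : y * y = y * z * (z * (y * z) * z⁻¹) := by
          rw [mul_assoc z, mul_assoc y z z⁻¹, mul_inv_cancel, mul_one, mul_assoc, ← mul_assoc z z, h.zz, one_mul]
        rw [h5]
        exact S.mul_mem h4 (this.conj_mem _ h4 z)
    have h4 : y = (y * y) ^ 13 := by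
      rw [← pow_two, ← pow_mul, show 2 * 13 = 25 + 1 from rfl, pow_succ, h25, one_mul]
    rw [h4]
    exact S.pow_mem h3 13
  obtain ⟨i, hi⟩ := h.inv y hyS
  have h3 : z * y ^ 5 * z⁻¹ = (y ^ 5)⁻¹ := by
    rw [← conj_pow, hi, (h.xpow i y⁻¹).mul_pow, hx5, mul_one, inv_pow]
  rw [← hk', (h.xpow k z).eq, mul_inv_cancel_right, hk'] at h3
  exact h1 (h.eq_one_S (S.pow_mem hyS 5) (mul_eq_one_iff_eq_inv.2 h3))

theorem eq_zpowers {s : D} (h5 : Nat.card (centralizer ({s} : Set D) ⊓ S : Subgroup D) = 5) :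
    zpowers x = centralizer ({s} : Set D) ⊓ S :=
  Subgroup.eq_of_le_of_card_ge
    (Subgroup.zpowers_le.2 ⟨mem_centralizer_singleton_iff.2 (h.xc s).symm, h.xS⟩) (by rw [h5, Nat.card_zpowers, h.ox])

/-- if `C_S(s) = ⟨x⟩` and `s` commutes with `z`, then `C(s) ≤ C(z)` -/
theorem comm_z {s : D} (hsz : s * z = z * s) (h5 : Nat.card (centralizer ({s} : Set D) ⊓ S : Subgroup D) = 5) {y : D}
    (hy : y * s = s * y) : y * z = z * y := by
  have huu : (y * z * y⁻¹) * (y * z * y⁻¹) = 1 := by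
    calc (y * z * y⁻¹) * (y * z * y⁻¹) = y * (z * z) * y⁻¹ := by group
      _ = 1 := by rw [h.zz]; group
  have h1 : ρ (y * z * y⁻¹) = 1 := by rw [map_mul, map_mul, h.ρz, mul_one, map_inv, mul_inv_cancel]
  have h2 : y * z * y⁻¹ * z ∈ S := ((h.ker _).1 h1).resolve_left fun h3 => h.z1 (by
    have h4 := h.eq_one_S h3 huu
    calc z = y⁻¹ * (y * z * y⁻¹) * y := by group
      _ = 1 := by rw [h4]; group)
  have c1 : Commute y s := hy
  have c2 : Commute z s := hsz.symm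
  have h3 : y * z * y⁻¹ * z ∈ zpowers x := by
    rw [h.eq_zpowers h5]
    exact ⟨mem_centralizer_singleton_iff.2 (((c1.mul_left c2).mul_left c1.inv_left).mul_left c2).eq, h2⟩
  obtain ⟨i, hi⟩ := h3
  have hi' : x ^ i = y * z * y⁻¹ * z := hi
  have h4 : y * z * y⁻¹ = x ^ i * z := by rw [hi', mul_assoc _ z z, h.zz, mul_one]
  have h6 : x ^ i = 1 := by
    refine h.eq_one_S (S.zpow_mem h.xS i) ?_
    rw [h4] at huu
    calc x ^ i * x ^ i = x ^ i * (z * z) * x ^ i := by rw [h.zz, mul_one]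
      _ = x ^ i * z * (z * x ^ i) := by group
      _ = 1 := by rw [(h.xpow i z).eq, huu]
  rw [h6, one_mul] at h4
  exact mul_inv_eq_iff_eq_mul.1 h4

omit [Finite D] in
theorem card_H : 604800 * 2 ∣ Nat.card (centralizer ({z} : Set D)) := by
  rw [H60.SolvLift.card_mul ρ]
  refine mul_dvd_mul ?_ ?_
  · have h1 : (centralizer ({z} : Set D)).map ρ = ⊤ := by
      rw [eq_top_iff]
      intro a _
      obtain ⟨c, h1, h2⟩ := h.lift a
      exact ⟨c, mem_centralizer_singleton_iff.2 h1, h2⟩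
    rw [h1, Subgroup.card_top, j2_card h.iso]
  · have : Fact (Nat.Prime 2) := ⟨Nat.prime_two⟩
    have h1 : orderOf z = 2 := orderOf_eq_prime (by rw [pow_two, h.zz]) h.z1
    rw [← h1]
    exact Subgroup.orderOf_dvd_natCard _ ⟨mem_centralizer_singleton_iff.2 rfl, h.ρz⟩

omit [Finite D] in
theorem card_D : Nat.card D ∣ 604800 * (2 * 5 ^ 7) := by
  rw [← Subgroup.card_top (G := D), H60.SolvLift.card_mul ρ]
  refine mul_dvd_mul ?_ ((h.card_K ⊤).trans (mul_dvd_mul_left 2 (h.card_S ⊤)))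
  rw [← j2_card h.iso]
  exact Subgroup.card_subgroup_dvd_card _

/-- an element of order 3 with many fixed points on `S` -/
theorem exists_three : ∃ s : D, orderOf s = 3 ∧ s * z = z * s ∧
    125 ∣ Nat.card (centralizer ({s} : Set D) ⊓ S : Subgroup D) := by
  have : Fact (Nat.Prime 3) := ⟨Nat.prime_three⟩
  have hS := h.Sn
  by_contra hcon
  obtain ⟨P, hP⟩ := Sylow.exists_subgroup_card_pow_prime (G := centralizer ({z} : Set D)) 3 (n := 3)
    ((by norm_num : 3 ^ 3 ∣ 604800 * 2).trans h.card_H)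
  have hxz : ∀ (g u : D), g * u * g⁻¹ ∈ zpowers x → u ∈ zpowers x := by
    rintro g u ⟨i, hi⟩
    refine ⟨i, ?_⟩
    have hi' : x ^ i = g * u * g⁻¹ := hi
    show x ^ i = u
    calc x ^ i = g⁻¹ * x ^ i * g := by rw [(h.xpow i g⁻¹).eq, inv_mul_cancel_right]
      _ = u := by rw [hi']; group
  let X := {u : D // u ∈ S ∧ u ∉ zpowers x}
  let _ : MulAction P X :=
    { smul := fun p u => ⟨(p.1 : D) * u.1 * (p.1 : D)⁻¹, hS.conj_mem _ u.2.1 _, fun h1 => u.2.2 (hxz _ _ h1)⟩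
      one_smul := fun u => Subtype.ext (by
        show (1 : D) * u.1 * (1 : D)⁻¹ = u.1
        group)
      mul_smul := fun p q u => Subtype.ext (by
        show (p.1 : D) * (q.1 : D) * u.1 * ((p.1 : D) * (q.1 : D))⁻¹ =
          (p.1 : D) * ((q.1 : D) * u.1 * (q.1 : D)⁻¹) * (p.1 : D)⁻¹
        group) }
  have hfree : ∀ u : X, MulAction.stabilizer P u = ⊥ := by
    intro u
    by_contra h1
    have h2 : Nat.card (MulAction.stabilizer P u) ∣ 3 ^ 3 := hP ▸ Subgroup.card_subgroup_dvd_card _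
    obtain ⟨i, -, hi⟩ := (Nat.dvd_prime_pow Nat.prime_three).1 h2
    have h3 : 3 ∣ Nat.card (MulAction.stabilizer P u) := by
      rw [hi]
      refine dvd_pow_self 3 fun h4 => h1 ?_
      rw [h4, pow_zero] at hi
      exact Subgroup.card_eq_one.1 hi
    obtain ⟨p, hp⟩ := exists_prime_orderOf_dvd_card' 3 h3
    have h4 : orderOf (p.1.1.1 : D) = 3 := by
      rw [Subgroup.orderOf_coe, Subgroup.orderOf_coe, Subgroup.orderOf_coe, hp]
    have h5 : (p.1.1.1 : D) * u.1 * (p.1.1.1 : D)⁻¹ = u.1 := congrArg Subtype.val (MulAction.mem_stabilizer_iff.1 p.2)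
    rcases h.fix_three h4 with h6 | h6
    · exact u.2.2 ((h.eq_zpowers h6).ge
        ⟨mem_centralizer_singleton_iff.2 (mul_inv_eq_iff_eq_mul.1 h5).symm, u.2.1⟩)
    · exact hcon ⟨_, h4, mem_centralizer_singleton_iff.1 p.1.1.2, h6⟩
  have h1 : Nat.card P ∣ Nat.card X := by
    rw [Nat.card_congr (MulAction.selfEquivOrbitsQuotientProd hfree), Nat.card_prod]
    exact dvd_mul_left _ _
  have h2 : Nat.card X = 5 ^ 7 - 5 := by
    have h3 : Nat.card X = ((S : Set D) \ (zpowers x : Set D)).ncard := rfl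
    rw [h3, Set.ncard_sdiff (fun u hu => Subgroup.zpowers_le.2 h.xS hu), ← Nat.card_coe_set_eq, ← Nat.card_coe_set_eq]
    exact congrArg₂ (· - ·) h.cS (by rw [← h.ox]; exact Nat.card_zpowers x)
  rw [hP, h2] at h1
  norm_num at h1

omit [Finite D] in
/-- lifting the centralizer of an element of order 3 -/
theorem lift_comm {s : D} (hs : orderOf s = 3) (hsz : s * z = z * s) {a : A} (ha : a * ρ s = ρ s * a) :
    ∃ c, c * s = s * c ∧ ρ c = a := by
  obtain ⟨c, hc, rfl⟩ := h.lift a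
  refine ⟨c, ?_, rfl⟩
  have c1 : Commute c z := hc
  have c2 : Commute s z := hsz
  have h1 : ρ (c * s * c⁻¹ * s⁻¹) = 1 := by
    rw [map_mul, map_mul, map_mul, ha, map_inv, map_inv]
    group
  have hx10 : ∀ i : ℤ, (x ^ i) ^ 10 = 1 := fun i => by
    rw [← zpow_natCast, ← zpow_mul, mul_comm, zpow_mul, zpow_natCast, show 10 = 5 * 2 from rfl, pow_mul, ← h.ox,
      pow_orderOf_eq_one, one_pow, one_zpow]
  have h2 : Commute (c * s * c⁻¹ * s⁻¹) s ∧ (c * s * c⁻¹ * s⁻¹) ^ 10 = 1 := by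
    obtain ⟨i, h3 | h3⟩ := h.kerH _ (((c1.mul_left c2).mul_left c1.inv_left).mul_left c2.inv_left).eq h1
    · rw [h3]
      exact ⟨(h.xpow i s).symm, hx10 i⟩
    · rw [h3]
      refine ⟨(h.xpow i s).symm.mul_left c2.symm, ?_⟩
      rw [(h.xpow i z).symm.mul_pow, hx10, one_mul, show 10 = 2 * 5 from rfl, pow_mul, pow_two, h.zz, one_pow]
  have hs3 : s ^ 3 = 1 := by rw [← hs, pow_orderOf_eq_one]
  have h3 : (c * s * c⁻¹ * s⁻¹) ^ 3 = 1 := by
    have h4 := h2.1.mul_pow 3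
    rwa [inv_mul_cancel_right, conj_pow, hs3, mul_one, mul_one, mul_inv_cancel, eq_comm] at h4
  have h4 := h2.2
  rw [show 10 = 3 * 3 + 1 from rfl, pow_succ, pow_mul, h3, one_pow, one_mul, mul_inv_eq_one,
    mul_inv_eq_iff_eq_mul] at h4
  exact h4

end Loc

end Cfsg.Agent.TAB.M5
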