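import Cfsg.Agent.H961.M5.MXB
import Cfsg.Agent.H411.M5.PGFacts
import Cfsg.Agent.TAB.M5.Loc

/-!
# An element of order 25 in the model `MX` (helper71, TAB)

`exists_25` : `y = w(e₅) a` has order 25, `5 ^ 4 ∤ |C(y)|`, and `y` commutes with the involution `(t z) ^ 5`.
-/

set_option autoImplicit false
set_option maxRecDepth 100000

namespace Cfsg.Agent.TAB.M5

open Matrix Cfsg.Agent.H777.M5 Cfsg.Agent.H411.M5
open Subgroup (centralizer zpowers mem_centralizer_singleton_iff)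

/-! ### The group `PG` -/

theorem act10 (v : V6) : act 1 0 v =
    ![v 0 + 4 * v 2 + 4 * v 3 + 2 * v 5, v 1 + 4 * v 4, v 2 + 4 * v 5, 2 * v 2 + v 3 + 4 * v 5, v 4, v 5] := by
  have h : mat 1 0 = aM := by decide +kernel
  rw [act, h]
  funext k
  fin_cases k <;> simp [aM, mulVec, dotProduct, Fin.sum_univ_six]

theorem mat_four : ∀ i j : ZMod 5, mat i j 4 = ![0, 0, 0, 0, 1, j] := by decide +kernel

theorem mat_five : ∀ i j : ZMod 5, mat i j 5 = ![0, 0, 0, 0, 0, 1] := by decide +kernel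

theorem act_four (i j : ZMod 5) (v : V6) : act i j v 4 = v 4 + j * v 5 := by
  show mat i j 4 ⬝ᵥ v = _
  rw [mat_four]
  simp [dotProduct, Fin.sum_univ_six]

theorem act_five (i j : ZMod 5) (v : V6) : act i j v 5 = v 5 := by
  show mat i j 5 ⬝ᵥ v = _
  rw [mat_five]
  simp [dotProduct, Fin.sum_univ_six]

theorem pow_five_eq {y : PG} (hi : y.i = 1) (hj : y.j = 0) : y ^ 5 = ⟨0, 4 * y.v 5 ^ 2, 0, 0⟩ := by
  rw [show y ^ 5 = y * (y * (y * (y * y))) by simp only [pow_succ', pow_zero, mul_one]]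
  ext1
  · funext k
    simp only [PG.mul_v, hi, hj, act10]
    fin_cases k <;> simp <;> ring_nf <;> reduce_mod_char
  · simp only [PG.mul_c, PG.mul_v, hi, hj, act10, om]
    simp
    ring_nf
    reduce_mod_char
    exact mul_comm _ _
  · simp only [PG.mul_i, hi]
    decide
  · simp only [PG.mul_j, hj]
    decide

theorem pow_five {y : PG} (hi : y.i = 1) (hj : y.j = 0) (h : y.v 5 = 0) : y ^ 5 = 1 := by
  rw [pow_five_eq hi hj, h]
  rfl

theorem card_cent_le {y : PG} (hi : y.i = 1) (hj : y.j = 0) (h : y.v 5 ≠ 0) :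
    Nat.card (centralizer ({y} : Set PG)) ≤ 125 := by
  have h5 : (5 : ZMod 5) = 0 := by decide
  have : Fact (Nat.Prime 5) := ⟨Nat.prime_five⟩
  have key : ∀ g : centralizer ({y} : Set PG), g.1.j = 0 ∧ g.1.v + act g.1.i g.1.j y.v = y.v + act 1 0 g.1.v ∧
      om g.1.v (act g.1.i g.1.j y.v) = om y.v (act 1 0 g.1.v) := by
    intro g
    have h1 := mem_centralizer_singleton_iff.1 g.2
    have h2 := congrArg PG.v h1
    have h3 := congrArg PG.c h1
    rw [PG.mul_v, PG.mul_v, hi, hj] at h2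
    rw [PG.mul_c, PG.mul_c, hi, hj] at h3
    refine ⟨?_, h2, by linear_combination 2 * h3 - (om g.1.v (act g.1.i g.1.j y.v) - om y.v (act 1 0 g.1.v)) * h5⟩
    have h4 := congrFun h2 4
    rw [Pi.add_apply, Pi.add_apply, act_four, act_four] at h4
    exact (mul_eq_zero.1 (by linear_combination h4 : g.1.j * y.v 5 = 0)).resolve_right h
  have e : Nat.card (ZMod 5 × ZMod 5 × ZMod 5) = 125 := by simp only [Nat.card_prod, Nat.card_zmod]
  rw [← e]
  refine Nat.card_le_card_of_injective (fun g => (g.1.i, g.1.c, g.1.v 1)) fun g g' he => ?_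
  obtain ⟨a1, a2, a3⟩ := key g
  obtain ⟨b1, b2, b3⟩ := key g'
  have e1 : g.1.i = g'.1.i := congrArg Prod.fst he
  have e2 : g.1.c = g'.1.c := congrArg (fun p => p.2.1) he
  have e3 : g.1.v 1 = g'.1.v 1 := congrArg (fun p => p.2.2) he
  rw [a1, e1] at a2 a3
  rw [b1] at b2 b3
  have u5 := act_five g'.1.i 0 y.v
  generalize act g'.1.i 0 y.v = u at a2 a3 b2 b3 u5
  rw [act10] at a2 a3 b2 b3
  have c0 := congrFun a2 0
  have c1 := congrFun a2 1
  have c2 := congrFun a2 2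
  have c3 := congrFun a2 3
  have d0 := congrFun b2 0
  have d1 := congrFun b2 1
  have d2 := congrFun b2 2
  have d3 := congrFun b2 3
  simp only [om, Pi.add_apply, cons_val_zero, cons_val_one, cons_val] at c0 c1 c2 c3 d0 d1 d2 d3 a3 b3
  have f4 : g.1.v 4 = g'.1.v 4 := by linear_combination c1 - d1 + (g.1.v 4 - g'.1.v 4) * h5
  have f5 : g.1.v 5 = g'.1.v 5 := by linear_combination c2 - d2 + (g.1.v 5 - g'.1.v 5) * h5
  have f2 : g.1.v 2 = g'.1.v 2 := by linear_combination 2 * c3 - 2 * d3 + 8 * f5 + (g.1.v 2 - g'.1.v 2) * h5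
  have f3 : g.1.v 3 = g'.1.v 3 := by linear_combination c0 - d0 + 4 * f2 + 2 * f5 + (g.1.v 3 - g'.1.v 3) * h5
  have f0 : g.1.v 0 = g'.1.v 0 := by
    rw [e3, f2, f3, f4, f5, u5] at a3
    rw [u5] at b3
    have h6 : (g.1.v 0 - g'.1.v 0) * y.v 5 = 0 := by
      linear_combination 3 * a3 - 3 * b3 - (g.1.v 0 - g'.1.v 0) * y.v 5 * h5
    exact sub_eq_zero.1 ((mul_eq_zero.1 h6).resolve_right h)
  refine Subtype.ext (PG.ext ?_ e2 e1 (a1.trans b1.symm))
  funext k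
  fin_cases k
  exacts [f0, e3, f2, f3, f4, f5]

/-- the element `w(e₅) a` -/
def yP : PG := ⟨![0, 0, 0, 0, 0, 1], 0, 1, 0⟩

/-- the element `a` -/
def aP : PG := ⟨0, 0, 1, 0⟩

/-- the element `x` -/
def xP : PG := ⟨0, 1, 0, 0⟩

theorem yP_five : yP ^ 5 = xP⁻¹ := by
  rw [pow_five_eq rfl rfl]
  ext1
  · rw [PG.inv_v]
    show 0 = -act _ _ 0
    rw [act_zero, neg_zero]
  · rfl
  · rfl
  · rfl

theorem xP_comm (g : PG) : g * xP = xP * g := by
  ext1
  · rw [PG.mul_v, PG.mul_v]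
    show g.v + act g.i g.j 0 = 0 + act 0 0 g.v
    rw [act_zero, act_one, add_zero, zero_add]
  · rw [PG.mul_c, PG.mul_c]
    show g.c + 1 + 3 * om g.v (act g.i g.j 0) = 1 + g.c + 3 * om 0 (act 0 0 g.v)
    rw [act_zero, om_zero_right, om_zero_left, add_comm g.c]
  · rw [PG.mul_i, PG.mul_i, add_comm]
  · rw [PG.mul_j, PG.mul_j, add_comm]

/-! ### The model -/

section

variable {G : Type} [Group G] (M : MX G)

theorem w_zero : M.w 0 = 1 := by
  have h := map_one (PDat.hom M.toPData)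
  rw [PDat.hom_apply] at h
  simpa using h

theorem hom_xP : PDat.hom M.toPData xP = M.x := by
  rw [PDat.hom_apply]
  show M.w 0 * M.x ^ 1 * (M.a ^ 0 * M.b ^ 0) = M.x
  rw [w_zero]
  simp

theorem hom_aP : PDat.hom M.toPData aP = M.a := by
  rw [PDat.hom_apply]
  show M.w 0 * M.x ^ 0 * (M.a ^ 1 * M.b ^ 0) = M.a
  rw [w_zero]
  simp

theorem hom_yP : PDat.hom M.toPData yP = M.w ![0, 0, 0, 0, 0, 1] * M.a := by
  rw [PDat.hom_apply]
  show M.w ![0, 0, 0, 0, 0, 1] * M.x ^ 0 * (M.a ^ 1 * M.b ^ 0) = _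
  simp

/-- the subgroup `5^(1+6)` -/
def WW : Subgroup G := PG.SW.map (PDat.hom M.toPData)

theorem mem_WW (v : V6) (c : ℕ) : M.w v * M.x ^ c ∈ WW M := by
  refine (WW M).mul_mem ⟨⟨v, 0, 0, 0⟩, ⟨rfl, rfl⟩, ?_⟩ ((WW M).pow_mem ⟨xP, ⟨rfl, rfl⟩, hom_xP M⟩ c)
  rw [PDat.hom_apply]
  simp

theorem conj_WW {g u : G} (hg : g * M.x = M.x * g) (hu : u ∈ WW M) : g * u * g⁻¹ ∈ WW M := by
  obtain ⟨p, ⟨h1, h2⟩, rfl⟩ := hu
  obtain ⟨v', c, h⟩ := M.normal g hg p.v
  have h3 : g * M.x ^ p.c.val * g⁻¹ = M.x ^ p.c.val := by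
    rw [((show Commute g M.x from hg).pow_right _).eq, mul_inv_cancel_right]
  have h4 : g * PDat.hom M.toPData p * g⁻¹ = (g * M.w p.v * g⁻¹) * (g * M.x ^ p.c.val * g⁻¹) := by
    rw [PDat.hom_apply, h1, h2, ZMod.val_zero, pow_zero, pow_zero, mul_one, mul_one]
    group
  rw [h4, h, h3, mul_assoc, ← pow_add]
  exact mem_WW M _ _

/-- the centralizer of `a` modulo `W` in `C(x)` -/
def FF : Subgroup G where
  carrier := {g | g * M.x = M.x * g ∧ g * M.a * g⁻¹ * M.a⁻¹ ∈ WW M}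
  one_mem' := ⟨by rw [one_mul, mul_one], by
    rw [one_mul, inv_one, mul_one, mul_inv_cancel]
    exact Subgroup.one_mem _⟩
  mul_mem' := by
    rintro g h ⟨g1, g2⟩ ⟨h1, h2⟩
    refine ⟨((show Commute g M.x from g1).mul_left h1).eq, ?_⟩
    rw [show g * h * M.a * (g * h)⁻¹ * M.a⁻¹ = g * (h * M.a * h⁻¹ * M.a⁻¹) * g⁻¹ * (g * M.a * g⁻¹ * M.a⁻¹) by group]
    exact (WW M).mul_mem (conj_WW M g1 h2) g2
  inv_mem' := by
    rintro g ⟨g1, g2⟩
    have g3 : g⁻¹ * M.x = M.x * g⁻¹ := (show Commute g M.x from g1).inv_left.eq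
    refine ⟨g3, ?_⟩
    rw [show g⁻¹ * M.a * g⁻¹⁻¹ * M.a⁻¹ = g⁻¹ * (g * M.a * g⁻¹ * M.a⁻¹)⁻¹ * g⁻¹⁻¹ by group]
    exact conj_WW M g3 ((WW M).inv_mem g2)

theorem range_le : (PDat.hom M.toPData).range ≤ FF M := by
  rintro _ ⟨p, rfl⟩
  refine ⟨by rw [← hom_xP, ← map_mul, ← map_mul, xP_comm], ?_⟩
  rw [← hom_aP, ← map_inv, ← map_inv, ← map_mul, ← map_mul, ← map_mul]
  exact ⟨_, comm_mem_SW p aP, rfl⟩

theorem y_five : PDat.hom M.toPData yP ^ 5 = M.x⁻¹ := by rw [← map_pow, yP_five, map_inv, hom_xP]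

theorem comm_x {g : G} (hg : Commute g (PDat.hom M.toPData yP)) : g * M.x = M.x * g := by
  have h := (hg.pow_right 5).inv_right
  rw [y_five, inv_inv] at h
  exact h.eq

theorem cent_le_FF : centralizer ({PDat.hom M.toPData yP} : Set G) ≤ FF M := by
  intro g hg
  have h1 : Commute g (PDat.hom M.toPData yP) := mem_centralizer_singleton_iff.1 hg
  refine ⟨comm_x M h1, ?_⟩
  have h2 := h1.eq
  rw [hom_yP] at h2
  have h3 := mem_WW M ![0, 0, 0, 0, 0, 1] 0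
  rw [pow_zero, mul_one] at h3
  generalize M.w ![0, 0, 0, 0, 0, 1] = w at h2 h3
  have h4 : g * M.a * g⁻¹ * M.a⁻¹ = g * w⁻¹ * g⁻¹ * w := by
    calc g * M.a * g⁻¹ * M.a⁻¹ = g * w⁻¹ * g⁻¹ * (g * (w * M.a)) * g⁻¹ * M.a⁻¹ := by group
      _ = _ := by rw [h2]; group
  rw [h4]
  exact (WW M).mul_mem (conj_WW M (comm_x M h1) ((WW M).inv_mem h3)) h3

theorem y_five_ne : PDat.hom M.toPData yP ^ 5 ≠ 1 := by
  rw [y_five, Ne, inv_eq_one]
  exact M.x_ne

theorem orderOf_y : orderOf (PDat.hom M.toPData yP) = 25 := by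
  have : Fact (Nat.Prime 5) := ⟨Nat.prime_five⟩
  refine orderOf_eq_prime_pow (p := 5) (n := 1) (by rw [pow_one]; exact y_five_ne M) ?_
  rw [show 5 ^ (1 + 1) = 5 * 5 from rfl, pow_mul, y_five, inv_pow, M.x_five, inv_one]

theorem not_dvd_cent [Finite G] : ¬ 5 ^ 4 ∣ Nat.card (centralizer ({PDat.hom M.toPData yP} : Set G)) := by
  have : Fact (Nat.Prime 5) := ⟨Nat.prime_five⟩
  intro h4
  set y := PDat.hom M.toPData yP with hy
  let y' : centralizer ({y} : Set G) := ⟨y, mem_centralizer_singleton_iff.2 rfl⟩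
  obtain ⟨Q, hQ⟩ := (pgroup_zpowers (u := y') (p := 5) (k := 2)
    (by rw [Subgroup.orderOf_mk]; exact orderOf_y M)).exists_le_sylow
  have h1 := Q.pow_dvd_card_of_pow_dvd_card h4
  obtain ⟨d, hd, h2⟩ := conj_into (k := 9) Nat.prime_five (range_le M)
    ((Subgroup.map_subtype_le Q.1).trans (cent_le_FF M)) (Q.2.map _) (by rw [PDat.card_range])
    fun h3 => M.not_dvd (h3.trans (Subgroup.card_subgroup_dvd_card _))
  choose f hf using fun q : Q.1 => h2 q.1.1 ⟨q.1, q.2, rfl⟩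
  obtain ⟨p, hp⟩ := h2 y ⟨y', hQ (Subgroup.mem_zpowers y'), rfl⟩
  have h3 : p * aP⁻¹ ∈ PG.SW := by
    have h5 : PDat.hom M.toPData (p * aP⁻¹) ∈ WW M := by
      have h6 := mem_WW M ![0, 0, 0, 0, 0, 1] 0
      rw [pow_zero, mul_one] at h6
      rw [map_mul, map_inv, hp, hom_aP, hy, hom_yP]
      generalize M.w ![0, 0, 0, 0, 0, 1] = w at h6
      rw [show d * (w * M.a) * d⁻¹ * M.a⁻¹ = d * w * d⁻¹ * (d * M.a * d⁻¹ * M.a⁻¹) by group]
      exact (WW M).mul_mem (conj_WW M hd.1 h6) hd.2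
    obtain ⟨q, hq, h6⟩ := h5
    exact PDat.hom_injective M.toPData h6 ▸ hq
  have hi : p.i = 1 := by
    have h5 : p.i + -1 = 0 := h3.1
    linear_combination h5
  have hj : p.j = 0 := by
    have h5 : p.j + -0 = 0 := h3.2
    linear_combination h5
  have h5 : p.v 5 ≠ 0 := by
    intro h6
    apply y_five_ne M
    have h7 := congrArg (PDat.hom M.toPData) (pow_five hi hj h6)
    rw [map_pow, hp, map_one, conj_pow] at h7
    calc y ^ 5 = d⁻¹ * (d * y ^ 5 * d⁻¹) * d := by group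
      _ = 1 := by rw [h7]; group
  have h6 : Nat.card Q.1 ≤ Nat.card (centralizer ({p} : Set PG)) := by
    refine Nat.card_le_card_of_injective (fun q => ⟨f q, ?_⟩) fun q q' he => ?_
    · rw [mem_centralizer_singleton_iff]
      apply PDat.hom_injective M.toPData
      have h7 := mem_centralizer_singleton_iff.1 q.1.2
      rw [map_mul, map_mul, hf, hp]
      calc d * q.1.1 * d⁻¹ * (d * y * d⁻¹) = d * (q.1.1 * y) * d⁻¹ := by group
        _ = d * (y * q.1.1) * d⁻¹ := by rw [h7]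
        _ = _ := by group
    · have h7 : f q = f q' := congrArg Subtype.val he
      have h8 := hf q
      rw [h7, hf q'] at h8
      exact Subtype.ext (Subtype.ext (mul_left_cancel (mul_right_cancel h8)).symm)
  have h7 := (Nat.le_of_dvd Nat.card_pos h1).trans (h6.trans (card_cent_le hi hj h5))
  norm_num at h7

theorem tz_w (v : V6) : M.t * M.z * M.w v * (M.t * M.z)⁻¹ = M.w (tM *ᵥ (-v)) := by
  rw [← M.t_w, ← M.z_w]
  group

theorem tM_tM (v : V6) : tM *ᵥ (-(tM *ᵥ (-v))) = v := by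
  have h : tM * tM = 1 := by decide +kernel
  rw [mulVec_neg v tM, neg_neg, mulVec_mulVec, h, one_mulVec]

theorem orderOf_tau : orderOf ((M.t * M.z) ^ 5) = 2 := by
  have : Fact (Nat.Prime 2) := ⟨Nat.prime_two⟩
  have c1 : Commute (M.t * M.z) M.x := (show Commute M.t M.x from M.tx).mul_left M.zx
  have c2 : Commute (M.t * M.z) M.z := (show Commute M.t M.z from M.tz).mul_left (Commute.refl _)
  obtain ⟨i, hi⟩ := M.ker ((M.t * M.z) ^ 2) (c1.pow_left 2).eq (c2.pow_left 2).eq fun v => by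
    calc (M.t * M.z) ^ 2 * M.w v * ((M.t * M.z) ^ 2)⁻¹ =
          M.t * M.z * (M.t * M.z * M.w v * (M.t * M.z)⁻¹) * (M.t * M.z)⁻¹ := by rw [pow_two]; group
      _ = M.w v := by rw [tz_w, tz_w, tM_tM]
  have hi' : M.x ^ i = (M.t * M.z) ^ 2 := hi
  refine orderOf_eq_prime ?_ fun h => ?_
  · rw [← pow_mul, mul_comm, pow_mul, ← hi', ← zpow_natCast, ← _root_.zpow_mul, mul_comm, _root_.zpow_mul,
      zpow_natCast, M.x_five, _root_.one_zpow]
  · have h1 : M.t * M.z = (M.x ^ i) ^ 3 := by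
      rw [hi', ← pow_mul, show 2 * 3 = 5 + 1 from rfl, pow_succ, h, one_mul]
    have h2 := tz_w M ![0, 1, 0, 0, 0, 0]
    rw [h1, (((show Commute M.x (M.w ![0, 1, 0, 0, 0, 0]) from M.x_w _).zpow_left i).pow_left 3).eq,
      mul_inv_cancel_right] at h2
    have h3 : PDat.hom M.toPData ⟨![0, 1, 0, 0, 0, 0], 0, 0, 0⟩ =
        PDat.hom M.toPData ⟨tM *ᵥ (-![0, 1, 0, 0, 0, 0]), 0, 0, 0⟩ := by
      rw [PDat.hom_apply, PDat.hom_apply, ← h2]
    exact absurd (congrFun (congrArg PG.v (PDat.hom_injective M.toPData h3)) 1) (by decide +kernel)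

theorem comm_tau : Commute (PDat.hom M.toPData yP) ((M.t * M.z) ^ 5) := by
  refine Commute.pow_right ?_ 5
  rw [hom_yP]
  refine Commute.mul_left ?_ ((show Commute M.t M.a from M.ta).mul_left M.za).symm
  have h := tz_w M ![0, 0, 0, 0, 0, 1]
  rw [H961.M5.MXB.tM_neg rfl rfl] at h
  exact (mul_inv_eq_iff_eq_mul.1 h).symm

theorem dvd_tau : 5 ^ 5 ∣ Nat.card (centralizer ({(M.t * M.z) ^ 5} : Set G)) := by
  have : Fact (Nat.Prime 5) := ⟨Nat.prime_five⟩
  have h1 : H961.M5.MXB.FU.map (PDat.hom M.toPData) ≤ centralizer ({(M.t * M.z) ^ 5} : Set G) := by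
    rintro _ ⟨p, ⟨h1, h2, h3, h4⟩, rfl⟩
    rw [mem_centralizer_singleton_iff, PDat.hom_apply, h1, h2, ZMod.val_zero, pow_zero, pow_zero, mul_one, mul_one]
    have h := tz_w M p.v
    rw [H961.M5.MXB.tM_neg h3 h4] at h
    have c1 : Commute (M.w p.v) (M.t * M.z) := (mul_inv_eq_iff_eq_mul.1 h).symm
    have c2 : Commute (M.t * M.z) M.x := (show Commute M.t M.x from M.tx).mul_left M.zx
    exact ((c1.mul_left (c2.symm.pow_left _)).pow_right 5).eq
  refine Dvd.dvd.trans ?_ (Subgroup.card_dvd_of_le h1)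
  rw [Subgroup.card_map_of_injective (PDat.hom_injective M.toPData)]
  obtain ⟨n, hn⟩ := IsPGroup.iff_card.1 (isPGroup_PG.to_subgroup H961.M5.MXB.FU)
  have h2 := H961.M5.MXB.card_FU
  rw [hn] at h2 ⊢
  exact pow_dvd_pow 5 ((Nat.pow_le_pow_iff_right (by norm_num)).1 h2)

theorem dvd_y : 5 ^ 9 ∣ Nat.card (centralizer ({PDat.hom M.toPData yP ^ 5} : Set G)) := by
  rw [← PDat.card_range M.toPData]
  refine Subgroup.card_dvd_of_le ?_
  rintro _ ⟨p, rfl⟩
  rw [mem_centralizer_singleton_iff, ← map_pow, yP_five, ← map_mul, ← map_mul,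
    (show Commute p xP from xP_comm p).inv_right.eq]

end

/-- **An element of order 25.** -/
theorem exists_25 {G : Type} [Group G] [Finite G] (M : MX G) : ∃ y τ : G, orderOf y = 25 ∧ orderOf τ = 2 ∧
    Commute y τ ∧ 5 ^ 9 ∣ Nat.card (centralizer ({y ^ 5} : Set G)) ∧ ¬ 5 ^ 4 ∣ Nat.card (centralizer ({y} : Set G)) ∧
    5 ^ 5 ∣ Nat.card (centralizer ({τ} : Set G)) :=
  ⟨_, _, orderOf_y M, orderOf_tau M, comm_tau M, dvd_y M, not_dvd_cent M, dvd_tau M⟩

end Cfsg.Agent.TAB.M5
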