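import Cfsg.Agent.TAB.M5.B
import Cfsg.Agent.TAB.M5.Mx
import Cfsg.Agent.H58.Mon.Thirteen
import Cfsg.Agent.H810.RIM.BCent
import Cfsg.Agent.H904.El.Cent
import Cfsg.Agent.H616.M23.SymChi

/-!
# The Monster: the boxes `25A`, `50A` (helper71, TAB)
-/

set_option autoImplicit false
set_option maxRecDepth 100000

namespace Cfsg.Agent.TAB.M5

open Cfsg Cfsg.Agent.BpSpor.MBigModel Cfsg.Agent.TAB.Eng Cfsg.Agent.TAB.M
open Cfsg.Agent.MonsterX Cfsg.Agent.LThreeMB Cfsg.Agent.LThreeMBTr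
open Cfsg.Agent.MonsterX.Space (V)
open Cfsg.Agent.LThreeB.Row (TA)
open Cfsg.Agent.H199.NSmMon (Ev)
open Cfsg.Agent.H136.M23.BWords (xu)
open Cfsg.Agent.TAB.C2B (Cover)
open Cfsg.Agent.TAB.M7 (ch ch_of_chr chr_eq_ch chr_iff ch_pow_prime ch_gal)
open Subgroup (centralizer zpowers mem_centralizer_singleton_iff center)

/-- the bound from the symmetric square -/
theorem sym_bound (g : MG) {c : ℕ} (h : Nat.card (centralizer ({g} : Set MG)) ≤ c) :
    ((ch g - 1) ^ 2 + (ch (g ^ 2) - 1) - 2 - 2 * (ch g - 1)) ^ 2 ≤ 8 * ((c : ℤ) - 1 - (ch g - 1) ^ 2) := by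
  have := finite
  obtain ⟨χ, A, B, e1, dA, dB, rA, rB, hs⟩ := H616.M23.symSq_chi
  have h1 := H616.M23.bound_aux (by rw [e1, H875.M23.TraceChar.chi_one]) dA dB rA rB hs (g := g)
    (v := ch g - 1) (v' := ch (g ^ 2) - 1) (by rw [e1, chi_of_chr (chr_eq_ch g)])
    (by rw [e1, ← pow_two, chi_of_chr (chr_eq_ch _)])
  have h2 : (Nat.card (centralizer ({g} : Set MG)) : ℤ) ≤ c := by exact_mod_cast h
  linarith

theorem cen_50 {y τ : MG} (hy : orderOf y = 25) (hτ : TA τ) (ho : orderOf τ = 2) (hc : Commute y τ) :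
    Nat.card (centralizer ({y * τ} : Set MG)) ∣ 50 := by
  have := finite
  have : Fact (Nat.Prime 5) := ⟨Nat.prime_five⟩
  obtain ⟨t, ht, h2, ⟨e⟩⟩ := H979.OddB.exists_cover (L := Spor.BabyMonster) ⟨MulEquiv.refl _⟩
  have h1 : IsConj _ τ := hτ
  have h3 : IsConj _ t := ht
  obtain ⟨g, rfl⟩ := isConj_iff.1 (h1.symm.trans h3)
  have hc' : Commute (g * y * g⁻¹) (g * τ * g⁻¹) := hc.map (MulAut.conj g)
  let a : centralizer ({g * τ * g⁻¹} : Set MG) := ⟨g * y * g⁻¹, mem_centralizer_singleton_iff.2 hc'.eq⟩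
  have hy' : orderOf (g * y * g⁻¹) = 25 := by rw [orderOf_isConj (isConj_iff.2 ⟨g, rfl⟩), hy]
  have ho' : orderOf (g * τ * g⁻¹) = 2 := by rw [orderOf_isConj (isConj_iff.2 ⟨g, rfl⟩), ho]
  have ha : orderOf a = 25 := by rw [Subgroup.orderOf_mk, hy']
  let φ := e.toMonoidHom.comp (QuotientGroup.mk' (center (centralizer ({g * τ * g⁻¹} : Set MG))))
  have hk : ∀ u, φ u = 1 → u ∈ center (centralizer ({g * τ * g⁻¹} : Set MG)) := fun u hu =>
    (QuotientGroup.eq_one_iff u).1 ((map_eq_one_iff e e.injective).1 hu)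
  have hφ : orderOf (φ a) = 25 := by
    refine orderOf_eq_prime_pow (p := 5) (n := 1) (fun h4 => ?_) ?_
    · have h5 := Subgroup.orderOf_dvd_natCard _ (hk (a ^ 5) (by rw [map_pow]; exact h4))
      rw [h2, orderOf_pow, ha] at h5
      norm_num at h5
    · rw [← map_pow, show 5 ^ (1 + 1) = 25 from rfl, ← ha, pow_orderOf_eq_one, map_one]
  have h4 : Nat.card (centralizer ({a} : Set (centralizer ({g * τ * g⁻¹} : Set MG)))) ∣ 25 * 2 := by
    rw [H60.SolvLift.card_mul φ]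
    refine mul_dvd_mul ?_ ?_
    · rw [← H810.RIM.BCent.card_cent (L := Spor.BabyMonster) ⟨MulEquiv.refl _⟩ hφ]
      refine Subgroup.card_dvd_of_le ?_
      rintro _ ⟨u, hu, rfl⟩
      rw [mem_centralizer_singleton_iff, ← map_mul, ← map_mul, mem_centralizer_singleton_iff.1 hu]
    · rw [← h2]
      exact Subgroup.card_dvd_of_le fun u hu => hk u hu.2
  refine Dvd.dvd.trans ?_ h4
  rw [← card_cent_conj (isConj_iff.2 ⟨g, (by group : g * (y * τ) * g⁻¹ = g * y * g⁻¹ * (g * τ * g⁻¹))⟩),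
    ← Subgroup.card_map_of_injective (K := centralizer ({a} : Set (centralizer ({g * τ * g⁻¹} : Set MG))))
      (centralizer ({g * τ * g⁻¹} : Set MG)).subtype_injective]
  refine Subgroup.card_dvd_of_le fun c h5 => ?_
  obtain ⟨h6, h7⟩ := comm_parts hc' (by rw [hy', ho']; norm_num) (by rw [hy']; norm_num)
    (mem_centralizer_singleton_iff.1 h5)
  exact ⟨⟨c, mem_centralizer_singleton_iff.2 h7⟩, mem_centralizer_singleton_iff.2 (Subtype.ext h6), rfl⟩

theorem rho_root {y : DD} (h : y ^ 5 = self (x0 : MG)) : orderOf (rho y) = 5 := by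
  have : Fact (Nat.Prime 5) := ⟨Nat.prime_five⟩
  refine orderOf_eq_prime (by rw [← map_pow, h]; exact loc.le_ker loc.xS) (loc.not_ker (fun h1 => ?_) ?_)
  · have h2 := loc.ox
    rw [← h, h1, orderOf_one] at h2
    norm_num at h2
  · rw [h]
    exact Subgroup.mem_zpowers _

theorem vals25 : M7.vals 25 = [] := by decide +kernel

theorem not_three (hC : Cover) {y s : DD} (h : y ^ 5 = self (x0 : MG)) (hy : orderOf y = 25) (hs : orderOf s = 3)
    (hc : y * s = s * y) : False := by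
  have := finite
  obtain ⟨d, -, hd⟩ := conj_into (k := 3) (E := ⊤) (F := centralizer ({zD x0} : Set DD)) (U := zpowers s)
    Nat.prime_three le_top le_top (pgroup_zpowers (k := 1) (by rw [hs, pow_one]))
    ((by norm_num : 3 ^ 3 ∣ 604800 * 2).trans loc.card_H) fun h1 => by
      rw [Subgroup.card_top] at h1
      exact absurd (h1.trans loc.card_D) (by norm_num)
  have h1 := mem_centralizer_singleton_iff.1 (hd s (Subgroup.mem_zpowers s))
  have hs' : orderOf (d * s * d⁻¹) = 3 := by rw [orderOf_isConj (isConj_iff.2 ⟨d, rfl⟩), hs]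
  have hy' : orderOf (d * y * d⁻¹) = 25 := by rw [orderOf_isConj (isConj_iff.2 ⟨d, rfl⟩), hy]
  have hc' : Commute (d * y * d⁻¹) (d * s * d⁻¹) := (show Commute y s from hc).map (MulAut.conj d)
  have h' : (d * y * d⁻¹) ^ 5 = self (x0 : MG) := by rw [conj_pow, h, loc.xc d, mul_inv_cancel_right]
  generalize d * s * d⁻¹ = s at h1 hs' hc'
  generalize d * y * d⁻¹ = y at hy' hc' h'
  rcases loc.fix_three hs' with h2 | h2
  · have h3 := loc.comm_z h1 h2 hc'.eq
    obtain ⟨l, hl, -⟩ := M7.ev_vals hC (M7.ev_of_comm (congrArg Subtype.val h3))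
      (by rw [Subgroup.orderOf_coe, hy']) vals25
    exact absurd hl List.not_mem_nil
  · obtain ⟨a, b, h3, -, -, h4, h5⟩ := loc.card_cen s
    have h6 := h5 y hc'.eq
    rw [rho_root h'] at h6
    exact H58.MonFiveB.three (x := (s : MG)) (by rw [Subgroup.orderOf_coe, hs'])
      (M7.ev_of_comm (congrArg Subtype.val h1))
      ((show 5 * 125 ∣ _ from h3 ▸ mul_dvd_mul h6 (h2.trans h4)).trans (card_D_dvd s))

theorem not_seven {y s : DD} (h : y ^ 5 = self (x0 : MG)) (hs : orderOf s = 7) (hc : y * s = s * y) : False := by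
  have h1 : orderOf (rho s) = 7 := Loc.ord_rho (by norm_num) hs fun h2 => by
    have h3 := loc.ord_ker h2
    rw [hs] at h3
    norm_num at h3
  obtain ⟨a, b, -, h2, -, -, h3⟩ := loc.card_cen s
  have h4 := (h3 y hc).trans h2
  rw [rho_root h, j2_cent loc.iso h1 (P := (· = 7)) (by decide +kernel)] at h4
  norm_num at h4

theorem cen_250 (hC : Cover) {y τ : MG} (h5 : y ^ 5 = x0) (hy : orderOf y = 25) (ho : orderOf τ = 2) (hc : Commute y τ)
    (h4 : ¬ 5 ^ 4 ∣ Nat.card (centralizer ({y} : Set MG))) (h50 : Nat.card (centralizer ({y * τ} : Set MG)) ∣ 50) :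
    Nat.card (centralizer ({y} : Set MG)) ∣ 250 := by
  have := finite
  have hle : centralizer ({y} : Set MG) ≤ centralizer ({(x0 : MG)} : Set MG) := fun c h1 =>
    mem_centralizer_singleton_iff.2 (h5 ▸ ((show Commute c y from mem_centralizer_singleton_iff.1 h1).pow_right 5).eq)
  let yD : DD := ⟨y, hle (mem_centralizer_singleton_iff.2 rfl)⟩
  have h5' : yD ^ 5 = self (x0 : MG) := Subtype.ext h5
  have key : ∀ p : ℕ, p.Prime → p ∣ Nat.card (centralizer ({y} : Set MG)) →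
      ∃ s : DD, orderOf s = p ∧ yD * s = s * yD := by
    intro p hp h1
    have : Fact p.Prime := ⟨hp⟩
    obtain ⟨s, hs⟩ := exists_prime_orderOf_dvd_card' p h1
    exact ⟨⟨s, hle s.2⟩, by rw [Subgroup.orderOf_mk, Subgroup.orderOf_coe, hs],
      Subtype.ext (mem_centralizer_singleton_iff.1 s.2).symm⟩
  have n3 : ¬ 3 ∣ Nat.card (centralizer ({y} : Set MG)) := fun h1 => by
    obtain ⟨s, h2, h3⟩ := key 3 Nat.prime_three h1
    exact not_three hC h5' (by rw [Subgroup.orderOf_mk, hy]) h2 h3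
  have n7 : ¬ 7 ∣ Nat.card (centralizer ({y} : Set MG)) := fun h1 => by
    obtain ⟨s, h2, h3⟩ := key 7 (by norm_num) h1
    exact not_seven h5' h2 h3
  have n4 : ¬ 2 ^ 2 ∣ Nat.card (centralizer ({y} : Set MG)) := fun h1 => by
    have h2 := H904.El.sq_dvd_cent Nat.prime_two h1 (x := ⟨τ, mem_centralizer_singleton_iff.2 hc.symm.eq⟩)
      (by rw [Subgroup.orderOf_mk, ho])
    rw [← Subgroup.card_map_of_injective (centralizer ({y} : Set MG)).subtype_injective] at h2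
    refine absurd ((h2.trans (Subgroup.card_dvd_of_le ?_)).trans h50) (by norm_num)
    rintro _ ⟨c, h3, rfl⟩
    have h6 : Commute (c : MG) τ := congrArg Subtype.val (mem_centralizer_singleton_iff.1 h3)
    exact mem_centralizer_singleton_iff.2
      ((show Commute (c : MG) y from mem_centralizer_singleton_iff.1 c.2).mul_right h6).eq
  have h1 : Nat.card (centralizer ({y} : Set MG)) ∣ 3 ^ 3 * (7 ^ 1 * (2 ^ 8 * 5 ^ 9)) :=
    ((Subgroup.card_dvd_of_le hle).trans loc.card_D).trans (by norm_num)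
  generalize Nat.card (centralizer ({y} : Set MG)) = n at h4 n3 n7 n4 h1
  have h2 := (((Nat.Prime.coprime_iff_not_dvd Nat.prime_three).2 n3).symm.pow_right 3).dvd_of_dvd_mul_left h1
  have h3 := (((Nat.Prime.coprime_iff_not_dvd (by norm_num : Nat.Prime 7)).2 n7).symm.pow_right 1).dvd_of_dvd_mul_left h2
  obtain ⟨a, b, ha, hb, rfl⟩ := (Nat.dvd_mul).1 h3
  obtain ⟨i, -, rfl⟩ := (Nat.dvd_prime_pow Nat.prime_two).1 ha
  obtain ⟨j, -, rfl⟩ := (Nat.dvd_prime_pow Nat.prime_five).1 hb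
  have hi : i ≤ 1 := by
    by_contra h6
    exact n4 ((pow_dvd_pow 2 (by omega)).mul_right _)
  have hj : j ≤ 3 := by
    by_contra h6
    exact h4 ((pow_dvd_pow 5 (by omega)).mul_left _)
  exact (mul_dvd_mul (pow_dvd_pow 2 hi) (pow_dvd_pow 5 hj)).trans (by norm_num)

theorem vals10 : M7.vals 10 = [[(1, -3), (2, 9), (5, 4372)], [(1, 1), (2, 9), (5, 276)], [(1, 6), (2, 134), (5, 276)],
    [(1, 21), (2, 9), (5, 276)], [(1, 22), (2, 134), (5, 4372)]] := by decide +kernel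

theorem ch_x0 : ch (x0 : MG) = 9 := ch_of_chr (by rw [chr_x0]; norm_num)

theorem ch_ten (hC : Cover) {τ : MG} (hτ : TA τ) (ho : orderOf τ = 2) (hc : Commute (x0 : MG) τ) :
    ch ((x0 : MG) * τ) = -3 := by
  have := finite
  let t : DD := ⟨τ, mem_centralizer_singleton_iff.2 hc.symm.eq⟩
  obtain ⟨d, -, hd⟩ := conj_into (k := 8) (E := ⊤) (F := centralizer ({zD x0} : Set DD)) (U := zpowers t)
    Nat.prime_two le_top le_top (pgroup_zpowers (k := 1) (by rw [Subgroup.orderOf_mk, ho, pow_one]))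
    ((by norm_num : 2 ^ 8 ∣ 604800 * 2).trans loc.card_H) fun h1 => by
      rw [Subgroup.card_top] at h1
      exact absurd (h1.trans loc.card_D) (by norm_num)
  have h1 : Commute ((d : MG) * τ * (d : MG)⁻¹) zz :=
    congrArg Subtype.val (mem_centralizer_singleton_iff.1 (hd t (Subgroup.mem_zpowers t)))
  have h2 : (d : MG) * x0 = x0 * d := mem_centralizer_singleton_iff.1 d.2
  have he : Ev ((x0 : MG) * τ) := M7.ev_iff.2 ⟨d, by
    rw [← mul_assoc, h2, mul_assoc (x0 : MG), mul_assoc (x0 : MG)]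
    exact ((show Commute (x0 : MG) zz from x0_comm).mul_left h1).eq⟩
  have h3 : orderOf ((x0 : MG) * τ) = 10 := by
    rw [hc.orderOf_mul_eq_mul_orderOf_of_coprime (by rw [x0_ord', ho]; norm_num), x0_ord', ho]
  have h4 : ch (((x0 : MG) * τ) ^ 2) = 9 := by
    rw [hc.mul_pow, ← ho, pow_orderOf_eq_one, mul_one, ho, ch_gal (by rw [x0_ord']; norm_num), ch_x0]
  have h5 : ch (((x0 : MG) * τ) ^ 5) = 4372 := by
    rw [hc.mul_pow, ← x0_ord', pow_orderOf_eq_one, one_mul, x0_ord', ch_gal (by rw [ho]; norm_num)]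
    exact ch_of_chr (by rw [M4.chr_ta hτ]; norm_num)
  obtain ⟨l, hl, h6⟩ := M7.ev_vals hC he h3 vals10
  simp only [List.mem_cons, List.not_mem_nil, or_false] at hl
  rcases hl with rfl | rfl | rfl | rfl | rfl <;>
    simp only [List.mem_cons, List.not_mem_nil, or_false, forall_eq_or_imp, forall_eq, pow_one, h4, h5] at h6 <;> omega

theorem exists_y : ∃ y τ : MG, y ^ 5 = x0 ∧ orderOf y = 25 ∧ orderOf τ = 2 ∧ TA τ ∧ Commute y τ ∧
    ¬ 5 ^ 4 ∣ Nat.card (centralizer ({y} : Set MG)) := by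
  have := finite
  obtain ⟨M⟩ := H961.M5.MXB.exists_MX
  obtain ⟨y, τ, h1, h2, h3, h4, h5, h6⟩ := exists_25 M
  have h7 : orderOf (y ^ 5) = 5 := by rw [orderOf_pow, h1]; rfl
  have h8 : IsConj (x0 : MG) (y ^ 5) := by
    refine (five_cases x0_ord x0_fr h7 (H58.MonThirteen.ev_five h7 h2 (h3.pow_left 5).eq)).resolve_left fun h9 => ?_
    rw [card_cent_conj h9, card_cent_xu] at h4
    norm_num at h4
  obtain ⟨c, hc⟩ := isConj_iff.1 h8.symm
  have h9 : orderOf (c * τ * c⁻¹) = 2 := by rw [orderOf_isConj (isConj_iff.2 ⟨c, rfl⟩), h2]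
  refine ⟨c * y * c⁻¹, c * τ * c⁻¹, by rw [conj_pow, hc], by rw [orderOf_isConj (isConj_iff.2 ⟨c, rfl⟩), h1], h9,
    (cls h9).resolve_left ?_, h3.map (MulAut.conj c), by rw [card_cent_conj (isConj_iff.2 ⟨c, rfl⟩)]; exact h5⟩
  rintro ⟨g, hg⟩
  rw [← card_cent_conj (isConj_iff.2 ⟨c, rfl⟩), card_cent_conj (isConj_iff.2 ⟨g, hg⟩), card_cent_z] at h6
  norm_num at h6

theorem boxC_25A_50A (hC : Cover) : BoxCM 86 ∧ BoxCM 132 := by
  have := finite
  obtain ⟨y, τ, h5, hy, ho, hτ, hc, h4⟩ := exists_y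
  have c50 := cen_50 hy hτ ho hc
  have c250 := cen_250 hC h5 hy ho hc h4 c50
  have hτ2 : τ ^ 2 = 1 := by rw [← ho, pow_orderOf_eq_one]
  have e2 : (y * τ) ^ 2 = y ^ 2 := by rw [hc.mul_pow, hτ2, mul_one]
  have e5 : (y * τ) ^ 5 = x0 * τ := by
    rw [hc.mul_pow, h5, show 5 = 2 * 2 + 1 from rfl, pow_succ, pow_mul, hτ2, one_pow, one_mul]
  have g2 : ch (y ^ 2) = ch y := ch_gal (by rw [hy]; norm_num)
  have t10 := ch_ten hC hτ ho (h5 ▸ hc.pow_left 5)
  have b1 := sym_bound y (Nat.le_of_dvd (by norm_num) c250)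
  have b2 := sym_bound (y * τ) (Nat.le_of_dvd (by norm_num) c50)
  have m1 := ch_pow_prime y Nat.prime_five
  have m2 := ch_pow_prime (y * τ) Nat.prime_five
  have m3 := ch_pow_prime (y * τ) Nat.prime_two
  rw [g2] at b1
  rw [e2, g2] at b2 m3
  rw [h5, ch_x0] at m1
  rw [e5, t10] at m2
  have key : ch y = 4 ∧ ch (y * τ) = 2 := by
    generalize ch y = u at b1 b2 m1 m3
    generalize ch (y * τ) = v at b2 m2 m3
    simp only [Nat.cast_ofNat] at b1 b2 m1 m2 m3
    have u1 : (u - 1) ^ 2 ≤ 16 ^ 2 := by linarith [(sq_nonneg _).trans b1]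
    have v1 : (v - 1) ^ 2 ≤ 7 ^ 2 := by linarith [(sq_nonneg _).trans b2]
    obtain ⟨u2, u3⟩ := abs_le.1 (abs_le_of_sq_le_sq u1 (by norm_num))
    obtain ⟨v2, v3⟩ := abs_le.1 (abs_le_of_sq_le_sq v1 (by norm_num))
    have u4 : u = -11 ∨ u = -6 ∨ u = -1 ∨ u = 4 ∨ u = 9 ∨ u = 14 := by omega
    have v4 : v = -3 ∨ v = 2 ∨ v = 7 := by omega
    rcases u4 with rfl | rfl | rfl | rfl | rfl | rfl <;> rcases v4 with rfl | rfl | rfl <;>
      first | exact ⟨rfl, rfl⟩ | (exfalso; revert b1 b2 m3; norm_num)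
  refine ⟨boxC_of (g := y) (c := 250) ((M7.tyM_iff' sg_25A _).2 ⟨hy, ?_⟩) (Nat.le_of_dvd (by norm_num) c250)
    (by rw [cnt_25A]), boxC_of (g := y * τ) (c := 50) ((M7.tyM_iff' sg_50A _).2 ⟨?_, ?_⟩)
    (Nat.le_of_dvd (by norm_num) c50) (by rw [cnt_50A])⟩
  · simp only [List.mem_cons, List.not_mem_nil, or_false, forall_eq_or_imp, forall_eq, pow_one]
    exact ⟨key.1, by rw [h5, ch_x0]⟩
  · rw [hc.orderOf_mul_eq_mul_orderOf_of_coprime (by rw [hy, ho]; norm_num), hy, ho]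
  · simp only [List.mem_cons, List.not_mem_nil, or_false, forall_eq_or_imp, forall_eq, pow_one]
    refine ⟨key.2, by rw [e2, g2, key.1], by rw [e5, t10], ?_, ?_⟩
    · rw [show 10 = 2 * 5 from rfl, pow_mul, e2, ← pow_mul, mul_comm, pow_mul, h5,
        ch_gal (by rw [x0_ord']; norm_num), ch_x0]
    · rw [hc.mul_pow, ← hy, pow_orderOf_eq_one, one_mul, hy, ch_gal (by rw [ho]; norm_num)]
      exact ch_of_chr (by rw [M4.chr_ta hτ]; norm_num)

theorem boxC_25A_of (hC : Cover) : BoxCM 86 := (boxC_25A_50A hC).1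

theorem boxC_50A_of (hC : Cover) : BoxCM 132 := (boxC_25A_50A hC).2

theorem box_25A_of (hC : Cover) : BoxM 86 := (boxC_25A_of hC).box

theorem box_50A_of (hC : Cover) : BoxM 132 := (boxC_50A_of hC).box

end Cfsg.Agent.TAB.M5
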