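import Cfsg.Agent.TAB.M5.BoxB
import Cfsg.Agent.TAB.M4.Left

/-!
# The Monster: the box `45A` from the other boxes (helper71, TAB)

The class of `xu * y`, `y` of order 9 in `HN`, has the right size and the right values of `χ` and `S²χ`; so the argument of
`TAB.M4.Left` shows that `y` has one of the types `9A`, `9B`.
-/

set_option autoImplicit false
set_option maxRecDepth 100000

namespace Cfsg.Agent.TAB.M5

open Cfsg Cfsg.Agent.BpSpor.MBigModel Cfsg.Agent.TAB.Eng Cfsg.Agent.TAB.M
open Cfsg.Agent.MonsterX.Space (V)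
open Cfsg.Agent.LThreeMBTr (chr)
open Cfsg.Agent.H136.M23.BWords (xu)
open Cfsg.Agent.H651.HNF (Ty table tyH)
open Cfsg.Agent.TAB.M4 (xv sv ty_val exists_xs exists_rest zero_of_sum)
open Cfsg.Agent.TAB.M7 (ch ch_of_chr ch_pow_prime ch_gal)
open Subgroup (centralizer)

/-- the three types -/
def lo3 (i : ℕ) : Bool := i == 22 || i == 36 || i == 127

theorem lo3_iff {i : ℕ} : lo3 i = false ↔ (i ≠ 22 ∧ i ≠ 36) ∧ i ≠ 127 := by simp [lo3]

theorem num45a : ((List.range dat.n).map fun i => if lo3 i then 0 else (dat.cnt i : ℤ) *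
    ((31 * xv i - 7 * sv i + 213) * (31 * xv i - 7 * sv i + 213))).sum =
      43110 * (dat.N : ℤ) - dat.cnt 127 * 56169 := by decide +kernel

theorem num45b : ((List.range dat.n).map fun i => if lo3 i then 0 else (dat.cnt i : ℤ) *
    ((xv i + 1) * (xv i - 6))).sum = -5 * (dat.N : ℤ) - dat.cnt 127 * -10 := by decide +kernel

theorem uniq45 : ((List.range 171).all fun i => dat.ord i != 45 || i == 127) = true := by decide +kernel

theorem vals9 : ((List.range 171).all fun i => dat.ord i != 9 || val i == 27 || val i == 0) = true := by decide +kernel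

/-- the elements of order 9 have known traces -/
theorem chr_nine (hb : ∀ i < 171, i ≠ 22 → i ≠ 36 → i ≠ 127 → BoxM i) {g : MG} (ho : orderOf g = 45)
    (hv : chr V g = 2) (hc : Nat.card (centralizer ({g} : Set MG)) = 135) {y : MG} (hy : orderOf y = 9) :
    chr V y = 27 ∨ chr V y = 0 := by
  classical
  have := finite
  have := Fintype.ofFinite MG
  obtain ⟨x, s, hx, hs, m1, m2, m3, m4, m5⟩ := exists_xs
  obtain ⟨R, hR, hsum⟩ := exists_rest (K := key) (D := dat) okSep lo3 fun i hi h =>
    hb i hi (lo3_iff.1 h).1.1 (lo3_iff.1 h).1.2 (lo3_iff.1 h).2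
  have hN : ((Finset.univ : Finset MG).card : ℤ) = dat.N := by
    rw [Finset.card_univ, ← Nat.card_eq_fintype_card, card_M]
    rfl
  have hxv : ∀ i < 171, ∀ g, TyM i g → x g = xv i := by
    intro i hi g hg
    have h1 := (hx g).symm.trans (ty_val hi hg)
    have h2 : x g + 1 = val i := by exact_mod_cast h1
    rw [xv, ← h2, add_sub_cancel_right]
  have hsv : ∀ i < 171, ∀ g, TyM i g → s g = sv i := by
    intro i hi g hg
    obtain ⟨h1, h2⟩ := M4.ty_pow hi hg 2
    have h3 := hs g
    rw [hxv i hi g hg, hxv _ h1 _ h2] at h3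
    rw [sv, ← h3]
    omega
  have hsq : ∀ u : MG, Nat.Coprime 2 (orderOf u) → x (u ^ 2) = x u := by
    intro u hu
    have h1 := chr_pow hu
    rw [hx, hx] at h1
    exact_mod_cast add_right_cancel h1
  -- the class of `g`
  let A : Finset MG := Finset.univ.filter fun u => IsConj g u
  have hA : ∀ u ∈ A, orderOf u = 45 ∧ x u = 1 ∧ s u = 1 := by
    intro u hu
    have h1 : IsConj g u := (Finset.mem_filter.1 hu).2
    have h2 : orderOf u = 45 := by rw [orderOf_isConj h1, ho]
    have h3 : x u = 1 := by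
      have h4 := hx u
      rw [chr_isConj h1, hv] at h4
      have h5 : (2 : ℤ) = x u + 1 := by exact_mod_cast h4
      omega
    have h4 := hs u
    rw [hsq u (by rw [h2]; norm_num), h3] at h4
    exact ⟨h2, h3, by omega⟩
  have cA : A.card = dat.cnt 127 := by
    have h1 := card_class g
    rw [hc, card_M, Nat.card_eq_fintype_card, Fintype.card_subtype] at h1
    rw [cnt_45A]
    have h2 : A.card * 135 = 808017424794512875886459904961710757005754368000000000 := h1
    omega
  have hAR : A ⊆ R := by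
    intro u hu
    by_contra h1
    obtain ⟨i, hi, h2, h3⟩ := hR u h1
    have h4 := List.all_eq_true.1 uniq45 i (List.mem_range.2 hi)
    rw [← h3.1, (hA u hu).1] at h4
    exact (lo3_iff.1 h2).2 (by simpa using h4)
  have split : ∀ (f : MG → ℤ) (c : ℤ), (∀ u ∈ A, f u = c) → ∑ u ∈ R \ A, f u = ∑ u ∈ R, f u - dat.cnt 127 * c := by
    intro f c hf
    rw [← Finset.sum_sdiff hAR, Finset.sum_congr rfl hf, Finset.sum_const, cA, nsmul_eq_mul, add_sub_cancel_right]
  have l1 : ∀ g ∈ R \ A, 31 * x g - 7 * s g + 213 = 0 := by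
    have h1 := hsum (fun g => (31 * x g - 7 * s g + 213) * (31 * x g - 7 * s g + 213))
      (fun i => (31 * xv i - 7 * sv i + 213) * (31 * xv i - 7 * sv i + 213))
      (fun i hi g hg => by rw [hxv i hi g hg, hsv i hi g hg])
    have h2 : ∑ g, (31 * x g - 7 * s g + 213) * (31 * x g - 7 * s g + 213) = 43110 * (dat.N : ℤ) := by
      have h3 : ∀ g, (31 * x g - 7 * s g + 213) * (31 * x g - 7 * s g + 213) =
          961 * (x g * x g) + 49 * (s g * s g) - 434 * (x g * s g) + 13206 * x g - 2982 * s g + 45369 :=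
        fun g => by ring
      simp only [h3, Finset.sum_add_distrib, Finset.sum_sub_distrib, ← Finset.mul_sum, m1, m2, m3, m4, m5,
        Finset.sum_const, nsmul_eq_mul, hN]
      ring
    have h3 := split (fun g => (31 * x g - 7 * s g + 213) * (31 * x g - 7 * s g + 213)) 56169 fun u hu => by
      rw [(hA u hu).2.1, (hA u hu).2.2]
      norm_num
    rw [h1, num45a, h2, sub_sub_cancel, sub_self] at h3
    intro g hg
    exact mul_self_eq_zero.1 (zero_of_sum (fun g _ => mul_self_nonneg _) h3 g hg)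
  have l2 : ∀ g ∈ R \ A, x g = -1 ∨ x g = 6 := by
    have h1 := hsum (fun g => (x g + 1) * (x g - 6)) (fun i => (xv i + 1) * (xv i - 6))
      (fun i hi g hg => by rw [hxv i hi g hg])
    have h2 : ∑ g, (x g + 1) * (x g - 6) = -5 * (dat.N : ℤ) := by
      have h3 : ∀ g, (x g + 1) * (x g - 6) = x g * x g - 5 * x g - 6 := fun g => by ring
      simp only [h3, Finset.sum_sub_distrib, ← Finset.mul_sum, m1, m2, Finset.sum_const, nsmul_eq_mul, hN]
      ring
    have h3 := split (fun g => (x g + 1) * (x g - 6)) (-10) fun u hu => by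
      rw [(hA u hu).2.1]
      norm_num
    rw [h1, num45b, h2, sub_sub_cancel, sub_self] at h3
    intro g hg
    have h4 := zero_of_sum (fun g hg => by
      have h5 := l1 g hg
      have h6 : x g ≤ -1 ∨ 6 ≤ x g := by omega
      rcases h6 with h6 | h6
      · exact mul_nonneg_of_nonpos_of_nonpos (by omega) (by omega)
      · exact mul_nonneg (by omega) (by omega)) h3 g hg
    rcases mul_eq_zero.1 h4 with h5 | h5
    · left; omega
    · right; omega
  have h1 : y ∉ R := by
    intro h1
    have h2 : y ∈ R \ A := Finset.mem_sdiff.2 ⟨h1, fun h3 => by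
      have h4 := (hA y h3).1
      omega⟩
    have h3 := l1 y h2
    have h4 := hs y
    rw [hsq y (by rw [hy]; norm_num)] at h4
    rcases l2 y h2 with h5 | h5 <;> rw [h5] at h3 h4 <;> omega
  obtain ⟨i, hi, -, h2⟩ := hR y h1
  have h3 := List.all_eq_true.1 vals9 i (List.mem_range.2 hi)
  rw [← h2.1, hy] at h3
  rw [ty_val hi h2]
  simp only [bne_self_eq_false, Bool.false_or, Bool.or_eq_true, beq_iff_eq] at h3
  rcases h3 with h3 | h3 <;> rw [h3]
  · exact Or.inl (by norm_num)
  · exact Or.inr (by norm_num)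

theorem boxC_45A_of (hb : ∀ i < 171, i ≠ 22 → i ≠ 36 → i ≠ 127 → BoxM i) : BoxCM 127 := by
  have := finite
  obtain ⟨h, hh⟩ := exists_tyH .c9 (by decide)
  have hs : tyH h ≠ .sing := by rw [hh]; decide
  have h9 : orderOf h = 9 := by rw [table.ord h hs, hh]; rfl
  have h5 : ¬ 5 ∣ orderOf h := by rw [h9]; norm_num
  have ho : orderOf ((xu : MG) * emb h) = 45 := by rw [orderOf_mul_emb h5, h9]
  have hv : chr V ((xu : MG) * emb h) = 2 := by
    rw [chr_emb hs, hh]
    norm_num [Ty.b]
  have hc : Nat.card (centralizer ({(xu : MG) * emb h} : Set MG)) = 135 := by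
    rw [cen_emb h5, table.cent h hs, hh]
    rfl
  have h3 : tyH (h ^ 3) = .c3B := by rw [table.pow h 3 Nat.prime_three hs, hh]; rfl
  have o3 : orderOf (h ^ 3) = 3 := by rw [table.ord _ (by rw [h3]; decide), h3]; rfl
  have hx5 : (xu : MG) ^ 5 = 1 := by rw [← orderOf_xu', pow_orderOf_eq_one]
  have e5 : ((xu : MG) * emb h) ^ 5 = emb h ^ 5 := by rw [(comm_emb h).mul_pow, hx5, one_mul]
  have c5 : chr V (emb h ^ 5) = chr V (emb h) := chr_pow (by rw [orderOf_emb, h9]; norm_num)
  have h27 : chr V (emb h) = 27 := by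
    refine (chr_nine hb ho hv hc (by rw [orderOf_emb, h9])).resolve_right fun h0 => ?_
    have h1 := ch_pow_prime ((xu : MG) * emb h) Nat.prime_five
    rw [e5, ch_of_chr (a := 2) (by rw [hv]; norm_num), ch_of_chr (a := 0) (by rw [c5, h0]; norm_num)] at h1
    norm_num at h1
  refine boxC_of (g := (xu : MG) * emb h) (c := 135) ((tyM_iff sg_45A _).2 ⟨ho, ?_⟩) hc.le (by rw [cnt_45A])
  simp only [List.mem_cons, List.not_mem_nil, or_false, forall_eq_or_imp, forall_eq, pow_one]
  refine ⟨by rw [hv]; norm_num, ?_, by rw [e5, c5, h27]; norm_num, ?_, ?_⟩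
  · have h1 : ((xu : MG) * emb h) ^ 3 = ((xu : MG) * emb (h ^ 3)) ^ 13 := by
      rw [(comm_emb _).mul_pow, (comm_emb _).mul_pow, ← map_pow, ← map_pow, show 13 = 5 * 2 + 3 from rfl, pow_add,
        pow_mul, hx5, one_pow, one_mul, show 5 * 2 + 3 = 3 * 4 + 1 from rfl, pow_succ (h ^ 3), pow_mul (h ^ 3),
        show (h ^ 3) ^ 3 = 1 by rw [← pow_orderOf_eq_one (h ^ 3), o3], one_pow, one_mul]
    rw [h1, chr_pow (by rw [orderOf_mul_emb (by rw [o3]; norm_num), o3]; norm_num), chr_emb (by rw [h3]; decide), h3]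
    norm_num [Ty.b]
  · rw [(comm_emb _).mul_pow, ← map_pow, show h ^ 9 = 1 by rw [← h9, pow_orderOf_eq_one], map_one, mul_one,
      chr_xu_pow (by norm_num)]
    norm_num
  · rw [show 15 = 5 * 3 from rfl, pow_mul, e5, ← pow_mul, mul_comm, pow_mul, ← map_pow,
      chr_pow (by rw [orderOf_emb, o3]; norm_num), chr_c3B h3]
    norm_num

theorem box_45A_of (hb : ∀ i < 171, i ≠ 22 → i ≠ 36 → i ≠ 127 → BoxM i) : BoxM 127 := (boxC_45A_of hb).box

/-- all the boxes from the boxes other than `8C`, `12C`, `45A` -/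
theorem all_of2 (hb : ∀ i < 171, i ≠ 22 → i ≠ 36 → i ≠ 127 → BoxM i) : ∀ i < 171, BoxM i :=
  M4.all_of fun i hi h1 h2 => if h3 : i = 127 then h3 ▸ box_45A_of hb else hb i hi h1 h2 h3

end Cfsg.Agent.TAB.M5
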