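import Cfsg.Agent.TAB.M5.B

/-!
# The Monster: the boxes `10C`, `15B`, `15C`, `15D`, `30F` (helper71, TAB)
-/

set_option autoImplicit false
set_option maxRecDepth 100000

namespace Cfsg.Agent.TAB.M5

open Cfsg Cfsg.Agent.BpSpor.MBigModel Cfsg.Agent.TAB.Eng Cfsg.Agent.TAB.M
open Cfsg.Agent.MonsterX Cfsg.Agent.LThreeMB Cfsg.Agent.LThreeMBTr
open Cfsg.Agent.MonsterX.Space (V)
open Cfsg.Agent.LThreeB.Row (TA)
open Cfsg.Agent.H199.NSmMon (Ev)
open Cfsg.Agent.H136.M23.BWords (xu xu_rat)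
open Cfsg.Agent.H651.HNF (Ty table tyH)
open Cfsg.Agent.TAB.C2B (Cover CountC TT)
open Cfsg.Agent.TAB.M7 (ch ch_of_chr chr_eq_ch chr_iff ch_pow_prime ch_gal)
open Subgroup (centralizer zpowers mem_centralizer_singleton_iff)

/-! ### `15B` -/

theorem chr_xu_pow {n : ℕ} (hn : n % 5 ≠ 0) : chr V ((xu : MG) ^ n) = 134 := by
  rw [chr_isConj (isConj_iff.2 (xu_rat n hn)), chr_xu]

/-- the class `3B` of `HN` lies in the class `3B` of the Monster -/
theorem chr_c3B {h : Spor.HN} (hh : tyH h = .c3B) : chr V (emb h) = 54 := by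
  obtain ⟨k, hk⟩ := exists_tyH .c6C (by decide)
  have hs : tyH k ≠ .sing := by rw [hk]; decide
  have h2 : tyH (k ^ 2) = .c3B := by rw [table.pow k 2 Nat.prime_two hs, hk]; rfl
  have h3 : orderOf k = 6 := by rw [table.ord k hs, hk]; rfl
  have hc : IsConj (emb (k ^ 2)) (emb h) :=
    emb.map_isConj (table.conj _ _ (h2.trans hh.symm) (by rw [h2]; decide) (by rw [h2]; decide))
  rw [chr_isConj hc]
  have o2 : orderOf (emb (k ^ 2)) = 3 := by rw [orderOf_emb, orderOf_pow' _ (by norm_num), h3]; rfl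
  have o3 : orderOf (emb (k ^ 3)) = 2 := by rw [orderOf_emb, orderOf_pow' _ (by norm_num), h3]; rfl
  have he : Ev (emb (k ^ 2)) :=
    LThreeM.FiRow.exists_z_of_comm (by rw [← o2, pow_orderOf_eq_one]) (by rw [← pow_two, ← o3, pow_orderOf_eq_one])
      (fun h4 => by
        rw [h4, orderOf_one] at o3
        norm_num at o3) (((Commute.refl k).pow_pow 2 3).map emb).eq
  have h4 : ch ((xu : MG) * emb (k ^ 2)) = -1 := ch_of_chr (by
    rw [chr_emb (by rw [h2]; decide), h2]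
    norm_num [Ty.b])
  have h5 := ch_pow_prime ((xu : MG) * emb (k ^ 2)) Nat.prime_five
  rw [(comm_emb _).mul_pow, ← orderOf_xu', pow_orderOf_eq_one, one_mul, orderOf_xu', ch_gal (by rw [o2]; norm_num),
    h4] at h5
  rcases three_cases o2 he with h6 | h6 | h6
  · exact h6.1
  · rw [ch_of_chr (a := 0) (by rw [h6]; norm_num)] at h5
    norm_num at h5
  · rw [ch_of_chr (a := 783) (by rw [h6]; norm_num)] at h5
    norm_num at h5

theorem boxC_15B : BoxCM 50 := by
  obtain ⟨h, hh⟩ := exists_tyH .c3B (by decide)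
  have hs : tyH h ≠ .sing := by rw [hh]; decide
  have h3 : orderOf h = 3 := by rw [table.ord h hs, hh]; rfl
  have h5 : ¬ 5 ∣ orderOf h := by rw [h3]; norm_num
  refine boxC_of (g := (xu : MG) * emb h) (c := 145800) ((tyM_iff sg_15B _).2 ⟨by rw [orderOf_mul_emb h5, h3], ?_⟩)
    (by rw [cen_emb h5, table.cent h hs, hh]; decide) (by rw [cnt_15B])
  simp only [List.mem_cons, List.not_mem_nil, or_false, forall_eq_or_imp, forall_eq, pow_one]
  refine ⟨?_, ?_, ?_⟩
  · rw [chr_emb hs, hh]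
    norm_num [Ty.b]
  · rw [(comm_emb _).mul_pow, ← map_pow, ← h3, pow_orderOf_eq_one, map_one, mul_one, h3, chr_xu_pow (by norm_num)]
    norm_num
  · rw [(comm_emb _).mul_pow, ← orderOf_xu', pow_orderOf_eq_one, one_mul, orderOf_xu',
      chr_pow (by rw [orderOf_emb, h3]; norm_num), chr_c3B hh]
    norm_num

theorem box_15B : BoxM 50 := boxC_15B.box

/-! ### `15D` -/

theorem vals15 : M7.vals 15 = [[(1, -1), (3, 134), (5, 54)], [(1, 0), (3, 9), (5, 0)], [(1, 8), (3, 134), (5, 783)],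
    [(1, 9), (3, 9), (5, 54)]] := by decide +kernel

theorem boxC_15D_of (hC : Cover) : BoxCM 52 := by
  have := finite
  obtain ⟨s, hs, hsz, h⟩ := loc.exists_three
  have hs' : orderOf (s : MG) = 3 := by rw [Subgroup.orderOf_coe, hs]
  have hc : Commute (x0 : MG) (s : MG) := (mem_centralizer_singleton_iff.1 s.2).symm
  have hcop : Nat.Coprime (orderOf (x0 : MG)) (orderOf (s : MG)) := by rw [x0_ord', hs']; norm_num
  have hsz' : (s : MG) * zz = zz * s := congrArg Subtype.val hsz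
  have ho : orderOf ((x0 : MG) * s) = 15 := by rw [hc.orderOf_mul_eq_mul_orderOf_of_coprime hcop, x0_ord', hs']
  have he : Ev ((x0 : MG) * s) :=
    M7.ev_of_comm ((show Commute (x0 : MG) zz from x0_comm).mul_left (show Commute (s : MG) zz from hsz')).eq
  have h3 : ch (((x0 : MG) * s) ^ 3) = 9 := by
    rw [hc.mul_pow, ← hs', pow_orderOf_eq_one, mul_one, hs', ch_gal (by rw [x0_ord']; norm_num)]
    exact ch_of_chr (by rw [chr_x0]; norm_num)
  have h5 : ch (((x0 : MG) * s) ^ 5) ≠ 54 := by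
    rw [hc.mul_pow, ← x0_ord', pow_orderOf_eq_one, one_mul, x0_ord', ch_gal (by rw [hs']; norm_num)]
    intro h6
    refine three54 hs' (M7.ev_of_comm hsz') (by rw [chr_eq_ch, h6]; norm_num) ?_
    exact (h.trans (Subgroup.card_dvd_of_le inf_le_left)).trans (card_D_dvd s)
  refine boxC_of (g := (x0 : MG) * s) (c := 9000) ((M7.tyM_iff' sg_15D _).2 ⟨ho, ?_⟩) (Nat.le_of_dvd (by norm_num)
    ((card_dvd_D s fun c h6 => comm_parts hc hcop (by rw [x0_ord']; norm_num) h6).trans (cen_zero hs hsz h)))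
    (by rw [cnt_15D])
  obtain ⟨l, hl, h6⟩ := M7.ev_vals hC he ho vals15
  simp only [List.mem_cons, List.not_mem_nil, or_false] at hl
  rcases hl with rfl | rfl | rfl | rfl
  · exact absurd (h6 (5, 54) (by simp)) h5
  · exact h6
  · have h7 := h6 (3, 134) (by simp)
    rw [h3] at h7
    norm_num at h7
  · exact absurd (h6 (5, 54) (by simp)) h5

/-! ### `30F`, `15C`, `10C` -/

theorem exists_30F (hN : CountC) : ∃ g : MG, Ev g ∧ TyM 100 g ∧ g ^ 6 = x0 := by
  obtain ⟨g, h1, h2⟩ := M7.exists_ty hN (t := TT[91]'(by rw [C2B.TT_length]; norm_num)) (List.getElem_mem _)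
    (by decide +kernel)
  have h3 : TyM 100 g := (M7.tyM_hasTy (by decide +kernel) g).2 h2
  have he := M7.ev_of_comm h1
  have h4 := ty_first sg_5B (ty_pow (by norm_num) h3 6 (by decide +kernel))
  obtain ⟨g', h5, h6⟩ := exists_root (conj_x0 h4.1 (ev_pow he 6) (by rw [h4.2]; norm_num))
  exact ⟨g', ev_isConj he h5, Eng.Ty.isConj h3 h5, h6⟩

theorem boxC_30F_of (hN : CountC) : BoxCM 100 := by
  have := finite
  obtain ⟨g, he, hg, h6⟩ := exists_30F hN
  have ho := (ty_first sg_30F hg).1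
  have h1 := ty_first sg_3B (ty_pow (by norm_num) hg 10 (by decide +kernel))
  have h2 := M4.ta_of_ty (ty_pow (by norm_num) hg 15 (by decide +kernel))
  refine boxC_of hg (c := 240) (Nat.le_of_dvd (by norm_num) ((card_dvd_pwD h6 5).trans (cen_six ?_ (ev_pow he 5) ?_ ?_)))
    (by rw [cnt_30F])
  · rw [pwD, Subgroup.orderOf_mk, orderOf_pow, ho]
    rfl
  · show chr V ((g ^ 5) ^ 2) = 54
    rw [← pow_mul, h1.2]
    norm_num
  · show TA ((g ^ 5) ^ 3)
    rw [← pow_mul]
    exact h2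

theorem boxC_15C_of (hN : CountC) : BoxCM 51 := by
  have := finite
  obtain ⟨g, he, hg, h6⟩ := exists_30F hN
  have h1 := ty_first sg_3B (ty_pow (by norm_num) hg 10 (by decide +kernel))
  have h2 : (g ^ 2) ^ 3 = x0 := by rw [← pow_mul, h6]
  have h3 : (pwD h2 5 : MG) = g ^ 10 := by
    show (g ^ 2) ^ 5 = g ^ 10
    rw [← pow_mul]
  refine boxC_of (ty_pow (by norm_num) hg 2 (by decide +kernel)) (c := 10800) (Nat.le_of_dvd (by norm_num)
    ((card_dvd_pwD h2 5).trans (cen_54 ?_ (h3 ▸ ev_pow he 10) ?_))) (by rw [cnt_15C])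
  · rw [← Subgroup.orderOf_coe, h3, h1.1]
  · rw [h3, h1.2]
    norm_num

theorem boxC_10C_of (hN : CountC) : BoxCM 30 := by
  have := finite
  obtain ⟨g, he, hg, h6⟩ := exists_30F hN
  have h1 : TyM 1 (g ^ 15) := ty_pow (by norm_num) hg 15 (by decide +kernel)
  have h2 : (g ^ 3) ^ 2 = x0 := by rw [← pow_mul, h6]
  have h3 : (pwD h2 5 : MG) = g ^ 15 := by
    show (g ^ 3) ^ 5 = g ^ 15
    rw [← pow_mul]
  refine boxC_of (ty_pow (by norm_num) hg 3 (by decide +kernel)) (c := 12000000) (Nat.le_of_dvd (by norm_num)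
    ((card_dvd_pwD h2 5).trans (cen_two (h3 ▸ M4.ta_of_ty h1) ?_))) (by rw [cnt_10C])
  rw [← Subgroup.orderOf_coe, h3, (ty_first sg_2A h1).1]

theorem box_15D_of (hC : Cover) : BoxM 52 := (boxC_15D_of hC).box

theorem box_30F_of (hN : CountC) : BoxM 100 := (boxC_30F_of hN).box

theorem box_15C_of (hN : CountC) : BoxM 51 := (boxC_15C_of hN).box

theorem box_10C_of (hN : CountC) : BoxM 30 := (boxC_10C_of hN).box

end Cfsg.Agent.TAB.M5
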